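import Groth.Agent.Lib.IntTheory.ChiConst
import Groth.Agent.Lib.JacCrit.OverField
import Groth.Agent.Lib.Ample.Pow
import Groth.Agent.Lib.Snapper.IntNum
import Groth.Prelude.Def_FGA

/-!
# Euler characteristics and intersection numbers under field extensions
-/

set_option autoImplicit false
set_option linter.style.haveILetI false
universe u

open CategoryTheory CategoryTheory.Limits AlgebraicGeometry

namespace Groth.Agent.Lib.IntTheory.BaseChange

open Groth.Agent.Lib

variable {k K : Type u} [Field k] [Field K] [Algebra k K] {X X' : Scheme.{u}}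
  [X.Over (Spec (CommRingCat.of k))] [IsProper (X ↘ Spec (CommRingCat.of k))]
  [X'.Over (Spec (CommRingCat.of K))] {g : X' ⟶ X}
  (hsq : IsPullback g (X' ↘ Spec (CommRingCat.of K)) (X ↘ Spec (CommRingCat.of k))
    (Spec.map (CommRingCat.ofHom (algebraMap k K))))

omit [IsProper (X ↘ Spec (CommRingCat.of k))] in
theorem isFlatOver (F : X.Modules) : FlatMod.IsFlatOver (X ↘ Spec (CommRingCat.of k)) F := by
  intro x
  show letI := FlatMod.moduleStalkOver (X ↘ Spec (CommRingCat.of k)) F x; Module.Flat _ _
  letI := FlatMod.moduleStalkOver (X ↘ Spec (CommRingCat.of k)) F x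
  let p : Spec (CommRingCat.of k) := (X ↘ Spec (CommRingCat.of k)) x
  have hfield : IsField ((Spec (CommRingCat.of k)).presheaf.stalk p) := by
    letI := (Spec (CommRingCat.of k)).presheaf.algebra_section_stalk (U := ⊤) ⟨p, trivial⟩
    haveI := (isAffineOpen_top (Spec (CommRingCat.of k))).isLocalization_stalk ⟨p, trivial⟩
    exact (RingEquiv.ofBijective _ (IsField.localization_map_bijective
      (M := ((isAffineOpen_top (Spec (CommRingCat.of k))).primeIdealOf ⟨p, trivial⟩).asIdeal.primeCompl)
      (Rₘ := (Spec (CommRingCat.of k)).presheaf.stalk p)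
      (fun h => h (Ideal.zero_mem _)) (JacCrit.OverField.isField_top (K := k)))).symm.toMulEquiv.isField
      (JacCrit.OverField.isField_top (K := k))
  letI := hfield.toField
  exact (inferInstance : Module.Flat ((Spec (CommRingCat.of k)).presheaf.stalk p) (F.presheaf.stalk x))

include hsq

/-- Cohomology dimensions are unchanged. -/
theorem finrank_HH {F : X.Modules} (hF : Coh.IsCoh F) (p : ℕ) :
    Module.finrank K (Coh.HH X' ((Scheme.Modules.pullback g).obj F) p) =
      Module.finrank k (Coh.HH X F p) := by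
  obtain ⟨b, P, hb, hfin, hfree, hpos, hiso⟩ :=
    _root_.ZarCoh.Exchange.Proper.exists_rep k F hF (isFlatOver F)
  haveI : F.IsQuasicoherent := hF.1
  obtain ⟨ep⟩ := hiso p
  obtain ⟨E⟩ := _root_.ZarCoh.Exchange.Fibre.nonempty_linearEquiv (A' := K) hsq F ep
  have h1 : IsPullback (𝟙 X) (X ↘ Spec (CommRingCat.of k)) (X ↘ Spec (CommRingCat.of k))
      (Spec.map (CommRingCat.ofHom (algebraMap k k))) := by
    rw [show CommRingCat.ofHom (algebraMap k k) = 𝟙 _ from rfl, Spec.map_id]
    exact IsPullback.of_horiz_isIso ⟨by simp⟩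
  obtain ⟨E₁⟩ := _root_.ZarCoh.Exchange.Fibre.nonempty_linearEquiv (A' := k) h1 F ep
  have e₀ : Module.finrank k (Coh.HH X ((Scheme.Modules.pullback (𝟙 X)).obj F) p) =
      Module.finrank k (Coh.HH X F p) :=
    Curves.Euler.hdim_eq_of_iso (k := k) ((Scheme.Modules.pullbackId X).app F) p
  rw [E.finrank_eq, ← e₀, E₁.finrank_eq, ChiConst.finrank_homology_field P _ K,
    ChiConst.finrank_homology_field P _ k]
  congr 1
  exact Subsingleton.elim (α := PrimeSpectrum k) _ _

theorem eulerCharLE {F : X.Modules} (hF : Coh.IsCoh F) (d : ℕ) :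
    FGA.eulerCharLE K X' ((Scheme.Modules.pullback g).obj F) d = FGA.eulerCharLE k X F d :=
  Finset.sum_congr rfl fun i _ => by rw [finrank_HH hsq hF i]

theorem euler {F : X.Modules} (hF : Coh.IsCoh F) :
    Curv2.euler K X' ((Scheme.Modules.pullback g).obj F) = Curv2.euler k X F :=
  finsum_congr fun i => by rw [finrank_HH hsq hF i]

omit hsq [IsProper (X ↘ Spec (CommRingCat.of k))] [Algebra k K] in
/-- Pullback of the symbol. -/
theorem sym_eq {d : ℕ} (h : ∀ F : X.Modules, Coh.IsCoh F →
      FGA.eulerCharLE K X' ((Scheme.Modules.pullback g).obj F) d = FGA.eulerCharLE k X F d) :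
    ∀ (l : List X.Modules), (∀ M ∈ l, PicF.IsInvertible M) → ∀ (F : X.Modules), Coh.IsCoh F →
      Snapper.Vanish.sym K X' d (l.map (Scheme.Modules.pullback g).obj) ((Scheme.Modules.pullback g).obj F) =
        Snapper.Vanish.sym k X d l F
  | [], _, F, hF => h F hF
  | M :: l, hl, F, hF => by
    have hl' : ∀ N ∈ l, PicF.IsInvertible N := fun N hN => hl N (List.mem_cons_of_mem _ hN)
    have hMF := Snapper.Twist.isCoh_twist (hl M List.mem_cons_self) hF
    rw [List.map_cons, Snapper.Vanish.sym_cons, Snapper.Vanish.sym_cons, sym_eq h l hl' F hF,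
      ← Snapper.Vanish.sym_of_iso _ (TensorMod.Pullback.pullbackTensorIso g M F),
      ← sym_eq h l hl' _ hMF]

/-- Intersection numbers are unchanged. -/
theorem intNum {r d : ℕ} {M : Fin r → X.Modules} (hM : ∀ i, PicF.IsInvertible (M i))
    {F : X.Modules} (hF : Coh.IsCoh F) :
    FGA.intNum K X' d (fun i => (Scheme.Modules.pullback g).obj (M i))
        ((Scheme.Modules.pullback g).obj F) = FGA.intNum k X d M F := by
  rw [Snapper.IntNum.intNum_eq_sym, Snapper.IntNum.intNum_eq_sym,
    show (List.ofFn fun i => (Scheme.Modules.pullback g).obj (M i)) =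
      (List.ofFn M).map (Scheme.Modules.pullback g).obj by simp [List.map_ofFn, Function.comp_def]]
  exact sym_eq (fun G hG => eulerCharLE hsq hG d) _
    (fun N hN => by obtain ⟨i, rfl⟩ := List.mem_ofFn.1 hN; exact hM i) F hF

end Groth.Agent.Lib.IntTheory.BaseChange
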