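import Groth.Agent.Lib.SurfInt.ConeForm

/-!
# The index inequality on a smooth projective surface
-/

set_option autoImplicit false
universe u

open CategoryTheory CategoryTheory.Limits AlgebraicGeometry

namespace Groth.Agent.Lib.IntTheory.IndexIneq

open Groth.Agent.Lib Groth.Agent.Lib.Modules Groth.Agent.Lib.Snapper Groth.Agent.Lib.SurfInt

variable {k : Type u} [Field k] {X : Scheme.{u}} [X.Over (Spec (CommRingCat.of k))]
  [IsIntegral X] [IsNoetherian X] [IsProper (X ↘ Spec (CommRingCat.of k))]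
  [Smooth (X ↘ Spec (CommRingCat.of k))] [Infinite k]

theorem self_pos (hdim : topologicalKrullDim X = 2) {H : X.Modules} (hH : CohB1.IsAmple H) :
    0 < FGA.intNum k X 2 ![H, H] (Coh.structureModule X) :=
  ConeForm.disc_int.self_pos (Finite.cohFinite k X) hdim (NegDef.regular_of_smooth (k := k)) hH

/-- `(L·L)(H·H) ≤ (L·H)²`. -/
theorem mul_self_le (hdim : topologicalKrullDim X = 2) {L H : X.Modules} (hL : PicF.IsInvertible L)
    (hH : CohB1.IsAmple H) :
    FGA.intNum k X 2 ![L, L] (Coh.structureModule X) * FGA.intNum k X 2 ![H, H] (Coh.structureModule X) ≤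
      FGA.intNum k X 2 ![L, H] (Coh.structureModule X) ^ 2 := by
  have hfin := Finite.cohFinite k X
  have hreg := NegDef.regular_of_smooth (k := k) (X := X)
  have hO := Twist.isCoh_structureModule X
  set a := FGA.intNum k X 2 ![L, L] (Coh.structureModule X)
  set x := FGA.intNum k X 2 ![L, H] (Coh.structureModule X) with hx
  set d := FGA.intNum k X 2 ![H, H] (Coh.structureModule X) with hd
  obtain ⟨N₁, hN₁, hP₁⟩ := ProjSurf.exists_zsmul (k := k) hdim hL d
  obtain ⟨N₂, hN₂, hP₂⟩ := ProjSurf.exists_zsmul (k := k) hdim hH.1 (-x)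
  have hN := TensorMod.Invertible.isInvertible_tensorMod hN₁ hN₂
  have hlin : ∀ P : X.Modules, PicF.IsInvertible P →
      FGA.intNum k X 2 ![CohB1.tensorMod N₁ N₂, P] (Coh.structureModule X) =
        d * FGA.intNum k X 2 ![L, P] (Coh.structureModule X) +
          -x * FGA.intNum k X 2 ![H, P] (Coh.structureModule X) := fun P hP => by
    rw [IntNum.intNum_pair_tensor_left hfin hdim.le hN₁ hN₂ hP hO, hP₁ P hP, hP₂ P hP]
  have h0 : FGA.intNum k X 2 ![CohB1.tensorMod N₁ N₂, H] (Coh.structureModule X) = 0 := by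
    rw [hlin H hH.1, ← hx, ← hd]; ring
  have h := Hodge.intNum_self_nonpos hfin hdim hreg hN hH h0
  rw [hlin _ hN, IntNum.intNum_pair_comm L (CohB1.tensorMod N₁ N₂),
    IntNum.intNum_pair_comm H (CohB1.tensorMod N₁ N₂), h0, hlin L hL, IntNum.intNum_pair_comm H L,
    ← hx] at h
  have key : d * (a * d - x ^ 2) ≤ d * 0 := by linarith
  have := le_of_mul_le_mul_left key (self_pos hdim hH)
  linarith

end Groth.Agent.Lib.IntTheory.IndexIneq
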