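import Groth.Prelude.Def_Curve
import Groth.Agent.Lib.SurfInt.Hodge
import Groth.Agent.Lib.SurfInt.NefInt
import Groth.Agent.Lib.SurfInt.PushIso
import Groth.Agent.Lib.IntTheory.IndexIneq
import Groth.Agent.Lib.ModelFibre.IdealPull
import Groth.Agent.Lib.Curves.GenusZero
import Groth.Agent.Lib.CurveBundle.SmoothField
import Groth.Agent.Lib.PicGen.OpenUFD
import Groth.Agent.Lib.Ample.External
import Groth.Agent.Lib.GeomConn.Geometric
import Groth.Agent.H75.VarDimX.Basic
import Groth.Agent.H2.Rigid.GeomIrred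
import Groth.Agent.S7642
import Groth.Agent.Lib.FibreDim.Basic
import Groth.Agent.Lib.GrpSch.SmoothReduced
import Groth.Agent.Lib.TensorMod.TensorInv

/-!
# The index inequality on a product of two curves
-/

set_option autoImplicit false
set_option linter.style.haveILetI false
set_option linter.unusedSectionVars false
universe u

open CategoryTheory CategoryTheory.Limits AlgebraicGeometry

namespace Groth.Agent.Lib.IntTheory.ProductCurves

open Groth.Agent.Lib Groth.Agent.Lib.Modules Groth.Agent.Lib.Snapper Groth.Agent.Lib.SurfInt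
open Groth.Agent.Lib.TensorMod.Invertible (isInvertible_tensorMod isInvertible_tensorPow)

section Orth

variable {k : Type u} [Field k] [Infinite k] {X : Scheme.{u}} [X.Over (Spec (CommRingCat.of k))]
  [IsIntegral X] [IsNoetherian X] [IsProper (X ↘ Spec (CommRingCat.of k))]
  [Smooth (X ↘ Spec (CommRingCat.of k))] (hdim : topologicalKrullDim X = 2)

include hdim

/-- The orthogonal complement of a class of positive square is negative semidefinite. -/
theorem nonpos_of_orth_pos {H P D : X.Modules} (hH : CohB1.IsAmple H) (hP : PicF.IsInvertible P)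
    (hD : PicF.IsInvertible D) (hPP : 0 < FGA.intNum k X 2 ![P, P] (Coh.structureModule X))
    (horth : FGA.intNum k X 2 ![D, P] (Coh.structureModule X) = 0) :
    FGA.intNum k X 2 ![D, D] (Coh.structureModule X) ≤ 0 := by
  have hfin := Finite.cohFinite k X
  have hreg := NegDef.regular_of_smooth (k := k) (X := X)
  set a := FGA.intNum k X 2 ![D, H] (Coh.structureModule X)
  set b := FGA.intNum k X 2 ![P, H] (Coh.structureModule X) with hb
  have hb0 : b ≠ 0 := fun h => (not_lt.2 (Hodge.intNum_self_nonpos hfin hdim hreg hP hH h)) hPP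
  obtain ⟨M, hM, hMP⟩ := NefInt.exists_comb (k := k) hdim hP hD a (-b)
  have h0 : FGA.intNum k X 2 ![M, H] (Coh.structureModule X) = 0 := by
    rw [hMP H hH.1, ← hb]; ring
  have h := Hodge.intNum_self_nonpos hfin hdim hreg hM hH h0
  rw [NefInt.sq_comb (k := k) hdim hP hD hM a (-b) hMP, IntNum.intNum_pair_comm P D, horth] at h
  have hb2 : 0 < b ^ 2 := by positivity
  by_contra hpos
  rw [not_le] at hpos
  nlinarith [mul_pos hb2 hpos, mul_nonneg (sq_nonneg a) hPP.le]

end Orth

/-- An irreducible scheme over an algebraically closed field is geometrically irreducible. -/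
theorem geometricallyIrreducible (k : Type u) [Field k] [IsAlgClosed k] (X : Scheme.{u})
    [X.Over (Spec (CommRingCat.of k))] [IrreducibleSpace X] :
    GeometricallyIrreducible (X ↘ Spec (CommRingCat.of k)) := by
  rw [GeomConn.Geometric.geometricallyIrreducible_iff_sepClosure]
  have hb : Function.Bijective (algebraMap k (SeparableClosure k)) :=
    ⟨(algebraMap k (SeparableClosure k)).injective,
      IsSepClosed.algebraMap_surjective k (SeparableClosure k)⟩
  haveI : IsIso (CommRingCat.ofHom (algebraMap k (SeparableClosure k))) :=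
    (ConcreteCategory.isIso_iff_bijective _).2 hb
  exact (Scheme.homeoOfIso (asIso (Curv2.bcFst k X (SeparableClosure k)))).irreducibleSpace_iff.2
    inferInstance

section Product

variable (k : Type u) [Field k] [IsAlgClosed k] (C₁ C₂ : Scheme.{u})
  [C₁.Over (Spec (CommRingCat.of k))] [C₂.Over (Spec (CommRingCat.of k))]

/-- The product of two curves. -/
noncomputable abbrev S := pullback (C₁ ↘ Spec (CommRingCat.of k)) (C₂ ↘ Spec (CommRingCat.of k))

/-- Intersection numbers on the product of two curves, with respect to the first structure map. -/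
noncomputable abbrev inum (A B : (S k C₁ C₂).Modules) : ℤ :=
  letI : (S k C₁ C₂).Over (Spec (CommRingCat.of k)) :=
    ⟨pullback.fst _ _ ≫ (C₁ ↘ Spec (CommRingCat.of k))⟩
  FGA.intNum k (S k C₁ C₂) 2 ![A, B] (Coh.structureModule _)

variable {C₁ C₂}
  (h₁ : Curve.IsSmoothProperCurve k C₁ (C₁ ↘ Spec (CommRingCat.of k)))
  (h₂ : Curve.IsSmoothProperCurve k C₂ (C₂ ↘ Spec (CommRingCat.of k)))

include h₁ h₂

/-- The product of two smooth proper curves is a smooth projective surface. -/
theorem surface : letI : (S k C₁ C₂).Over (Spec (CommRingCat.of k)) :=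
      ⟨pullback.fst _ _ ≫ (C₁ ↘ Spec (CommRingCat.of k))⟩
    IsProper (S k C₁ C₂ ↘ Spec (CommRingCat.of k)) ∧ Smooth (S k C₁ C₂ ↘ Spec (CommRingCat.of k)) ∧
      IsIntegral (S k C₁ C₂) ∧ topologicalKrullDim (S k C₁ C₂) = 2 ∧
      ∃ H : (S k C₁ C₂).Modules, CohB1.IsAmple H := by
  obtain ⟨hp₁, hs₁, hi₁, hd₁⟩ := h₁
  obtain ⟨hp₂, hs₂, hi₂, hd₂⟩ := h₂
  letI : (S k C₁ C₂).Over (Spec (CommRingCat.of k)) :=
    ⟨pullback.fst _ _ ≫ (C₁ ↘ Spec (CommRingCat.of k))⟩
  haveI : IsProper (pullback.fst (C₁ ↘ Spec (CommRingCat.of k)) (C₂ ↘ Spec (CommRingCat.of k))) :=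
    inferInstance
  haveI : Smooth (pullback.fst (C₁ ↘ Spec (CommRingCat.of k)) (C₂ ↘ Spec (CommRingCat.of k))) :=
    inferInstance
  have hP : IsProper (S k C₁ C₂ ↘ Spec (CommRingCat.of k)) :=
    inferInstanceAs (IsProper (pullback.fst _ _ ≫ (C₁ ↘ Spec (CommRingCat.of k))))
  have hS : Smooth (S k C₁ C₂ ↘ Spec (CommRingCat.of k)) :=
    inferInstanceAs (Smooth (pullback.fst _ _ ≫ (C₁ ↘ Spec (CommRingCat.of k))))
  haveI := geometricallyIrreducible k C₂
  haveI : UniversallyOpen (C₂ ↘ Spec (CommRingCat.of k)) := inferInstance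
  haveI : IrreducibleSpace (S k C₁ C₂) := inferInstance
  haveI := GrpSch.isReduced_of_smooth_field (S k C₁ C₂ ↘ Spec (CommRingCat.of k))
  refine ⟨hP, hS, isIntegral_of_irreducibleSpace_of_isReduced _, ?_, ?_⟩
  · have hd : H75.VarDimX.FibDim (C₂ ↘ Spec (CommRingCat.of k)) 1 := by
      refine H75.VarDimX.fibDim_of_fiber _ 1 fun s => ?_
      rw [FibreDim.Basic.topologicalKrullDim_fiber, Nat.cast_one, ← hd₂]
      have hu : (C₂ ↘ Spec (CommRingCat.of k)).base ⁻¹' {s} = Set.univ :=
        Set.eq_univ_of_forall fun z => Subsingleton.elim (α := PrimeSpectrum k) _ _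
      rw [hu]
      exact (Homeomorph.Set.univ _).isHomeomorph.topologicalKrullDim_eq
    have hd' : H75.VarDimX.FibDim
        (pullback.fst (C₁ ↘ Spec (CommRingCat.of k)) (C₂ ↘ Spec (CommRingCat.of k))) 1 :=
      hd.baseChange (IsPullback.of_hasPullback _ _).flip
    have h := H75.VarDimX.topologicalKrullDim_preimage
      (pullback.fst (C₁ ↘ Spec (CommRingCat.of k)) (C₂ ↘ Spec (CommRingCat.of k)))
      (S k C₁ C₂ ↘ Spec (CommRingCat.of k)) (C₁ ↘ Spec (CommRingCat.of k)) rfl hd'
      (T := Set.univ) isClosed_univ.isLocallyClosed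
    rw [Set.preimage_univ, (Homeomorph.Set.univ _).isHomeomorph.topologicalKrullDim_eq,
      (Homeomorph.Set.univ _).isHomeomorph.topologicalKrullDim_eq, hd₁] at h
    rw [h]
    rfl
  · haveI := Curves.GlobalSections.isNoetherian_of_proper k C₁
    haveI := Curves.GlobalSections.isNoetherian_of_proper k C₂
    haveI : C₁.IsSeparated := ⟨by
      rw [← terminal.comp_from (C₁ ↘ Spec (CommRingCat.of k))]; infer_instance⟩
    haveI : C₂.IsSeparated := ⟨by
      rw [← terminal.comp_from (C₂ ↘ Spec (CommRingCat.of k))]; infer_instance⟩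
    obtain ⟨A, hA⟩ := S7642.exists_isAmple hd₁.le _ (PicLoc.isInvertible_structureModule C₁)
    obtain ⟨B, hB⟩ := S7642.exists_isAmple hd₂.le _ (PicLoc.isInvertible_structureModule C₂)
    exact ⟨_, (Ample.RelAmple.isRelAmple_iff_isAmple (S k C₁ C₂ ↘ Spec (CommRingCat.of k))).1
      (Ample.External.isRelAmple_external (f₁ := C₁ ↘ Spec (CommRingCat.of k))
        (f₂ := C₂ ↘ Spec (CommRingCat.of k)) (pullback.fst _ _) (pullback.snd _ _)
        (S k C₁ C₂ ↘ Spec (CommRingCat.of k)) rfl pullback.condition.symm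
        (by rw [show pullback.lift (pullback.fst (C₁ ↘ Spec (CommRingCat.of k))
              (C₂ ↘ Spec (CommRingCat.of k))) (pullback.snd _ _) pullback.condition = 𝟙 _ by
              ext <;> simp]
            infer_instance)
        ((Ample.RelAmple.isRelAmple_iff_isAmple _).2 hA)
        ((Ample.RelAmple.isRelAmple_iff_isAmple _).2 hB))⟩

omit h₁ h₂ in
/-- A closed point of a smooth curve is a divisor. -/
theorem point_divisor {C : Scheme.{u}} [C.Over (Spec (CommRingCat.of k))]
    (h : Curve.IsSmoothProperCurve k C (C ↘ Spec (CommRingCat.of k)))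
    (x : Spec (CommRingCat.of k) ⟶ C) (hx : x ≫ (C ↘ Spec (CommRingCat.of k)) = 𝟙 _) :
    IsClosedImmersion x ∧ BlowUp.IsEffCartierIdeal x.ker ∧
      Curv2.deg k C (_root_.ClSub.idealMod x.ker) 1 = -1 ∧
      Nonempty ((Scheme.Modules.pullback x).obj (_root_.ClSub.idealMod x.ker) ≅
        Coh.structureModule (Spec (CommRingCat.of k))) := by
  obtain ⟨hp, hs, hi, hd⟩ := h
  haveI := Curves.GlobalSections.isNoetherian_of_proper k C
  haveI : IsClosedImmersion x := by
    haveI : IsClosedImmersion (x ≫ (C ↘ Spec (CommRingCat.of k))) := by rw [hx]; infer_instance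
    exact IsClosedImmersion.of_comp x (C ↘ Spec (CommRingCat.of k))
  let p : C := x (IsLocalRing.closedPoint k)
  have hr : Set.range x = {p} := by
    refine Set.eq_singleton_iff_unique_mem.2 ⟨⟨_, rfl⟩, ?_⟩
    rintro _ ⟨z, rfl⟩
    exact congrArg x (Subsingleton.elim (α := PrimeSpectrum k) _ _)
  have hp' : IsClosed ({p} : Set C) := hr ▸ x.isClosedEmbedding.isClosed_range
  have hker : x.ker = Curves.PointIdeal.ptI hp' := by
    rw [H75.RedKer.ker_eq_vanishingIdeal]
    congr 1
    ext1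
    simp only [hr, hp'.closure_eq]
  have hcart : BlowUp.IsEffCartierIdeal (Curves.PointIdeal.ptI hp') := by
    have hmem : ∀ y ∈ (Curves.PointIdeal.ptI hp').support, y = p := fun y hy => by
      have : y ∈ ((Curves.PointIdeal.ptI hp').support : Set C) := hy
      rwa [Curves.PointIdeal.support_ptI] at this
    refine H4.CartierUFD.isEffCartier_of_assoc _ (fun y hy _ => ?_) fun y hy => ?_
    · obtain rfl := hmem y hy
      exact Curves.GenusZero.one_le_dim_stalk hd hp'
    · obtain rfl := hmem y hy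
      haveI := (CurveBundle.SmoothField.closed_stalk k hd.le hp').2
      exact ⟨inferInstance, inferInstance⟩
  refine ⟨‹_›, hker ▸ hcart, ?_, ?_⟩
  · have hI := ClSub.Cartier.isInvertible_idealMod hcart
    have hne : genericPoint C ≠ p := by
      intro hg
      have h1 : (Set.univ : Set C) = {p} := by
        rw [← hp'.closure_eq, ← hg, (genericPoint_spec C).def]
      have h2 : topologicalKrullDim C ≤ 0 := by
        haveI : Subsingleton C := ⟨fun a b => by
          have ha : a ∈ (Set.univ : Set C) := trivial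
          have hb : b ∈ (Set.univ : Set C) := trivial
          rw [h1] at ha hb
          exact ha.trans hb.symm⟩
        exact topologicalKrullDim_zero_of_discreteTopology _
      rw [hd] at h2
      exact absurd h2 (by norm_num)
    rw [hker, Curves.Degree.deg_idealMod hd.le hI (by
      rw [Curves.PointIdeal.support_ptI]
      exact hne), Curves.PointIdeal.hdim_quot_point_algClosed hp' hd.le, Nat.cast_one]
  · exact PicGen.OpenUFD.nonempty_iso_spec k _
      (PicLoc.isInvertible_pullback x (ClSub.Cartier.isInvertible_idealMod (hker ▸ hcart)))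

omit [IsAlgClosed k] h₁ h₂ in
/-- The ideal of a point pulled back by a constant map has degree zero. -/
theorem deg_pullback_const {C D : Scheme.{u}} [D.Over (Spec (CommRingCat.of k))]
    (x : Spec (CommRingCat.of k) ⟶ C) (M : C.Modules)
    (hM : Nonempty ((Scheme.Modules.pullback x).obj M ≅ Coh.structureModule (Spec (CommRingCat.of k))))
    (g : D ⟶ C) (hg : g = (D ↘ Spec (CommRingCat.of k)) ≫ x) :
    Curv2.deg k D ((Scheme.Modules.pullback g).obj M) 1 = 0 := by
  obtain ⟨e⟩ := hM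
  subst hg
  let e' : (Scheme.Modules.pullback ((D ↘ Spec (CommRingCat.of k)) ≫ x)).obj M ≅
      Coh.structureModule D :=
    ((Scheme.Modules.pullbackComp _ x).app M).symm ≪≫ (Scheme.Modules.pullback _).mapIso e ≪≫
      PicLoc.pullbackStructureIso _
  rw [Curves.Euler.deg_eq_of_iso e']
  simp [Curv2.deg]

variable (x : Spec (CommRingCat.of k) ⟶ C₁) (hx : x ≫ (C₁ ↘ Spec (CommRingCat.of k)) = 𝟙 _)
  (i₂ : C₂ ⟶ S k C₁ C₂)
  (hi₂ : i₂ ≫ pullback.snd _ _ = 𝟙 C₂ ∧
    i₂ ≫ pullback.fst _ _ = (C₂ ↘ Spec (CommRingCat.of k)) ≫ x)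

include hx hi₂

/-- The pairing with the class of a fibre of the first projection. -/
theorem fst_pair {P : (S k C₁ C₂).Modules} (hP : PicF.IsInvertible P) :
    inum k C₁ C₂ ((Scheme.Modules.pullback (pullback.fst _ _)).obj (_root_.ClSub.idealMod x.ker)) P =
      - Curv2.deg k C₂ ((Scheme.Modules.pullback i₂).obj P) 1 := by
  letI : (S k C₁ C₂).Over (Spec (CommRingCat.of k)) :=
    ⟨pullback.fst _ _ ≫ (C₁ ↘ Spec (CommRingCat.of k))⟩
  obtain ⟨hp, hs, hint, hdim, -⟩ := surface k h₁ h₂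
  obtain ⟨hcl, hcart, -, -⟩ := point_divisor k h₁ x hx
  haveI := Curves.GlobalSections.isNoetherian_of_proper k (S k C₁ C₂)
  haveI := hcl
  obtain ⟨-, hs₂, -, -⟩ := h₂
  set p₁ := pullback.fst (C₁ ↘ Spec (CommRingCat.of k)) (C₂ ↘ Spec (CommRingCat.of k))
  haveI : Smooth p₁ := inferInstanceAs (Smooth (pullback.fst _ _))
  set J := x.ker.comap p₁
  have hJ : BlowUp.IsEffCartierIdeal J := Ideal.EffCartier.isEffCartier_comap_of_flat p₁ hcart
  obtain ⟨e⟩ := ModelFibre.IdealPull.nonempty_pullback_idealMod p₁ hcart fun U s hs _ z hz =>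
    Ideal.EffCartier.germ_app_mem_nonZeroDivisors_of_flat p₁ s z hz (Flat.stalkMap p₁ z)
      (Ideal.EffCartier.germ_mem_nonZeroDivisors U.2 hs (p₁ z) hz)
  show FGA.intNum k (S k C₁ C₂) 2 ![_, P] (Coh.structureModule _) = _
  rw [NegDef.intNum_congr_left (k := k) e,
    Surface.intNum_ideal_eq_neg_deg (Finite.cohFinite k (S k C₁ C₂)) hdim.le
      (ClSub.Cartier.isInvertible_idealMod hJ) hP]
  letI := Surface.overSub (k := k) J
  congr 1
  -- the divisor is the image of `i₂`
  have hsq : IsPullback i₂ (C₂ ↘ Spec (CommRingCat.of k)) p₁ x := by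
    refine IsPullback.of_right ?_ hi₂.2 (IsPullback.of_hasPullback _ _).flip
    rw [hi₂.1, hx]
    exact IsPullback.of_id_fst
  let t := x.toImage
  haveI : IsIso t := inferInstanceAs (IsIso x.toImage)
  have hsq' : IsPullback i₂ ((C₂ ↘ Spec (CommRingCat.of k)) ≫ t) p₁ x.ker.subschemeι :=
    hsq.of_iso (Iso.refl _) (Iso.refl _) (asIso t) (Iso.refl _) (by simp) (by simp) (by simp)
      (by simp [t])
  let φ : C₂ ⟶ J.subscheme := hsq'.isoPullback.hom ≫ (x.ker.comapIso p₁).inv
  have hφ : φ ≫ J.subschemeι = i₂ := by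
    simp only [φ, J, Category.assoc, Scheme.IdealSheafData.comapIso_inv_subschemeι,
      IsPullback.isoPullback_hom_fst]
  have hover : φ ≫ (J.subscheme ↘ Spec (CommRingCat.of k)) = C₂ ↘ Spec (CommRingCat.of k) := by
    show φ ≫ J.subschemeι ≫ p₁ ≫ (C₁ ↘ Spec (CommRingCat.of k)) = _
    rw [← Category.assoc, hφ, ← Category.assoc, hi₂.2, Category.assoc, hx, Category.comp_id]
  rw [← PushIso.deg_pullback φ hover (PicLoc.isInvertible_pullback J.subschemeι hP)]
  refine Curves.Euler.deg_eq_of_iso ?_ 1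
  exact (Scheme.Modules.pullbackComp φ J.subschemeι).app P ≪≫
    (Scheme.Modules.pullbackCongr hφ).app P

end Product

section Main

variable (k : Type u) [Field k] [IsAlgClosed k] {C₁ C₂ : Scheme.{u}}
  [C₁.Over (Spec (CommRingCat.of k))] [C₂.Over (Spec (CommRingCat.of k))]
  (h₁ : Curve.IsSmoothProperCurve k C₁ (C₁ ↘ Spec (CommRingCat.of k)))
  (h₂ : Curve.IsSmoothProperCurve k C₂ (C₂ ↘ Spec (CommRingCat.of k)))
  (x : Spec (CommRingCat.of k) ⟶ C₁) (hx : x ≫ (C₁ ↘ Spec (CommRingCat.of k)) = 𝟙 _)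
  (y : Spec (CommRingCat.of k) ⟶ C₂) (hy : y ≫ (C₂ ↘ Spec (CommRingCat.of k)) = 𝟙 _)
  (i₁ : C₁ ⟶ S k C₁ C₂)
  (hi₁ : i₁ ≫ pullback.fst _ _ = 𝟙 C₁ ∧
    i₁ ≫ pullback.snd _ _ = (C₁ ↘ Spec (CommRingCat.of k)) ≫ y)
  (i₂ : C₂ ⟶ S k C₁ C₂)
  (hi₂ : i₂ ≫ pullback.snd _ _ = 𝟙 C₂ ∧
    i₂ ≫ pullback.fst _ _ = (C₂ ↘ Spec (CommRingCat.of k)) ≫ x)

include h₁ h₂ hx hy hi₁ hi₂

/-- The pairing with the class of a fibre of the second projection. -/
theorem snd_pair {P : (S k C₁ C₂).Modules} (hP : PicF.IsInvertible P) :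
    inum k C₁ C₂ ((Scheme.Modules.pullback (pullback.snd _ _)).obj (_root_.ClSub.idealMod y.ker)) P =
      - Curv2.deg k C₁ ((Scheme.Modules.pullback i₁).obj P) 1 := by
  let σ := pullbackSymmetry (C₂ ↘ Spec (CommRingCat.of k)) (C₁ ↘ Spec (CommRingCat.of k))
  letI : (S k C₁ C₂).Over (Spec (CommRingCat.of k)) :=
    ⟨pullback.fst _ _ ≫ (C₁ ↘ Spec (CommRingCat.of k))⟩
  obtain ⟨hp, hs, hint, hdim, -⟩ := surface k h₁ h₂
  obtain ⟨hcl, hcart, -, -⟩ := point_divisor k h₂ y hy
  haveI := Curves.GlobalSections.isNoetherian_of_proper k (S k C₁ C₂)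
  haveI := hcl
  obtain ⟨-, hs₁, -, -⟩ := h₁
  set p₂ := pullback.snd (C₁ ↘ Spec (CommRingCat.of k)) (C₂ ↘ Spec (CommRingCat.of k))
  haveI : Smooth p₂ := inferInstanceAs (Smooth (pullback.snd _ _))
  set J := y.ker.comap p₂
  have hJ : BlowUp.IsEffCartierIdeal J := Ideal.EffCartier.isEffCartier_comap_of_flat p₂ hcart
  obtain ⟨e⟩ := ModelFibre.IdealPull.nonempty_pullback_idealMod p₂ hcart fun U s hs _ z hz =>
    Ideal.EffCartier.germ_app_mem_nonZeroDivisors_of_flat p₂ s z hz (Flat.stalkMap p₂ z)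
      (Ideal.EffCartier.germ_mem_nonZeroDivisors U.2 hs (p₂ z) hz)
  show FGA.intNum k (S k C₁ C₂) 2 ![_, P] (Coh.structureModule _) = _
  rw [NegDef.intNum_congr_left (k := k) e,
    Surface.intNum_ideal_eq_neg_deg (Finite.cohFinite k (S k C₁ C₂)) hdim.le
      (ClSub.Cartier.isInvertible_idealMod hJ) hP]
  letI := Surface.overSub (k := k) J
  congr 1
  have hsq : IsPullback i₁ (C₁ ↘ Spec (CommRingCat.of k)) p₂ y := by
    refine IsPullback.of_right ?_ hi₁.2 (IsPullback.of_hasPullback _ _)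
    rw [hi₁.1, hy]
    exact IsPullback.of_id_fst
  let t := y.toImage
  haveI : IsIso t := inferInstanceAs (IsIso y.toImage)
  have hsq' : IsPullback i₁ ((C₁ ↘ Spec (CommRingCat.of k)) ≫ t) p₂ y.ker.subschemeι :=
    hsq.of_iso (Iso.refl _) (Iso.refl _) (asIso t) (Iso.refl _) (by simp) (by simp) (by simp)
      (by simp [t])
  let φ : C₁ ⟶ J.subscheme := hsq'.isoPullback.hom ≫ (y.ker.comapIso p₂).inv
  have hφ : φ ≫ J.subschemeι = i₁ := by
    simp only [φ, J, Category.assoc, Scheme.IdealSheafData.comapIso_inv_subschemeι,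
      IsPullback.isoPullback_hom_fst]
  have hover : φ ≫ (J.subscheme ↘ Spec (CommRingCat.of k)) = C₁ ↘ Spec (CommRingCat.of k) := by
    show φ ≫ J.subschemeι ≫ pullback.fst _ _ ≫ (C₁ ↘ Spec (CommRingCat.of k)) = _
    rw [← Category.assoc, hφ, ← Category.assoc, hi₁.1, Category.id_comp]
  rw [← PushIso.deg_pullback φ hover (PicLoc.isInvertible_pullback J.subschemeι hP)]
  refine Curves.Euler.deg_eq_of_iso ?_ 1
  exact (Scheme.Modules.pullbackComp φ J.subschemeι).app P ≪≫
    (Scheme.Modules.pullbackCongr hφ).app P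

/-- The equivalence defect is a positive semidefinite form. -/
theorem defect {L L' M M' : (S k C₁ C₂).Modules} (hL : PicF.IsInvertible L)
    (hL' : PicF.IsInvertible L') (hM : Nonempty (CohB1.tensorMod L M ≅ Coh.structureModule _))
    (hM' : Nonempty (CohB1.tensorMod L' M' ≅ Coh.structureModule _)) :
    (inum k C₁ C₂ M M ≤ 2 * Curv2.deg k C₁ ((Scheme.Modules.pullback i₁).obj L) 1 *
        Curv2.deg k C₂ ((Scheme.Modules.pullback i₂).obj L) 1) ∧
    (inum k C₁ C₂ M M'
        - Curv2.deg k C₁ ((Scheme.Modules.pullback i₁).obj L) 1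
            * Curv2.deg k C₂ ((Scheme.Modules.pullback i₂).obj L') 1
        - Curv2.deg k C₂ ((Scheme.Modules.pullback i₂).obj L) 1
            * Curv2.deg k C₁ ((Scheme.Modules.pullback i₁).obj L') 1) ^ 2 ≤
      (2 * Curv2.deg k C₁ ((Scheme.Modules.pullback i₁).obj L) 1
            * Curv2.deg k C₂ ((Scheme.Modules.pullback i₂).obj L) 1
          - inum k C₁ C₂ M M)
        * (2 * Curv2.deg k C₁ ((Scheme.Modules.pullback i₁).obj L') 1
            * Curv2.deg k C₂ ((Scheme.Modules.pullback i₂).obj L') 1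
          - inum k C₁ C₂ M' M') := by
  letI : (S k C₁ C₂).Over (Spec (CommRingCat.of k)) :=
    ⟨pullback.fst _ _ ≫ (C₁ ↘ Spec (CommRingCat.of k))⟩
  obtain ⟨hp, hs, hint, hdim, H, hH⟩ := surface k h₁ h₂
  haveI := Curves.GlobalSections.isNoetherian_of_proper k (S k C₁ C₂)
  have hfin := Finite.cohFinite k (S k C₁ C₂)
  have hO := Twist.isCoh_structureModule (S k C₁ C₂)
  obtain ⟨hcx, hex, hdx, htx⟩ := point_divisor k h₁ x hx
  obtain ⟨hcy, hey, hdy, hty⟩ := point_divisor k h₂ y hy
  set E := (Scheme.Modules.pullback (pullback.fst (C₁ ↘ Spec (CommRingCat.of k))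
    (C₂ ↘ Spec (CommRingCat.of k)))).obj (_root_.ClSub.idealMod x.ker) with hEdef
  set F := (Scheme.Modules.pullback (pullback.snd (C₁ ↘ Spec (CommRingCat.of k))
    (C₂ ↘ Spec (CommRingCat.of k)))).obj (_root_.ClSub.idealMod y.ker) with hFdef
  have hE : PicF.IsInvertible E :=
    PicLoc.isInvertible_pullback _ (ClSub.Cartier.isInvertible_idealMod hex)
  have hF : PicF.IsInvertible F :=
    PicLoc.isInvertible_pullback _ (ClSub.Cartier.isInvertible_idealMod hey)
  let num : (S k C₁ C₂).Modules → (S k C₁ C₂).Modules → ℤ := fun A B =>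
    FGA.intNum k (S k C₁ C₂) 2 ![A, B] (Coh.structureModule _)
  let d₁ : (S k C₁ C₂).Modules → ℤ := fun A => Curv2.deg k C₁ ((Scheme.Modules.pullback i₁).obj A) 1
  let d₂ : (S k C₁ C₂).Modules → ℤ := fun A => Curv2.deg k C₂ ((Scheme.Modules.pullback i₂).obj A) 1
  have hcomm : ∀ A B, num A B = num B A := fun A B => IntNum.intNum_pair_comm A B _
  have hEP : ∀ P, PicF.IsInvertible P → num E P = - d₂ P :=
    fun P hP => fst_pair k h₁ h₂ x hx i₂ hi₂ hP
  have hFP : ∀ P, PicF.IsInvertible P → num F P = - d₁ P :=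
    fun P hP => snd_pair k h₁ h₂ x hx y hy i₁ hi₁ i₂ hi₂ hP
  have hEE : num E E = 0 := by
    rw [hEP E hE, neg_eq_zero]
    show Curv2.deg k C₂ _ 1 = 0
    exact (Curves.Euler.deg_eq_of_iso ((Scheme.Modules.pullbackComp i₂ _).app _ ≪≫
      (Scheme.Modules.pullbackCongr hi₂.2).app _) 1).trans (deg_pullback_const k x _ htx _ rfl)
  have hFF : num F F = 0 := by
    rw [hFP F hF, neg_eq_zero]
    show Curv2.deg k C₁ _ 1 = 0
    exact (Curves.Euler.deg_eq_of_iso ((Scheme.Modules.pullbackComp i₁ _).app _ ≪≫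
      (Scheme.Modules.pullbackCongr hi₁.2).app _) 1).trans (deg_pullback_const k y _ hty _ rfl)
  have hEF : num E F = 1 := by
    rw [hEP F hF]
    show - Curv2.deg k C₂ _ 1 = 1
    exact (congrArg (- ·) ((Curves.Euler.deg_eq_of_iso ((Scheme.Modules.pullbackComp i₂ _).app _ ≪≫
      (Scheme.Modules.pullbackCongr hi₂.1).app _ ≪≫ (Scheme.Modules.pullbackId _).app _) 1).trans
        hdy)).trans (neg_neg 1)
  obtain ⟨W, hW, hWP⟩ := NefInt.exists_comb (k := k) hdim hE hF 1 1
  have hWW : 0 < num W W := by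
    have := NefInt.sq_comb (k := k) hdim hE hF hW 1 1 hWP
    simp only [num] at this hEE hFF hEF ⊢
    rw [this, hEE, hFF, hEF]
    norm_num
  -- the primitive part of a class
  have prim : ∀ A : (S k C₁ C₂).Modules, PicF.IsInvertible A → ∃ A' : (S k C₁ C₂).Modules,
      PicF.IsInvertible A' ∧ num A' E = 0 ∧ num A' F = 0 ∧ ∀ P, PicF.IsInvertible P →
        num A' P = num A P - d₁ A * d₂ P - d₂ A * d₁ P := by
    intro A hA
    obtain ⟨G, hG, hGP⟩ := NefInt.exists_comb (k := k) hdim hE hF (d₁ A) (d₂ A)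
    refine ⟨CohB1.tensorMod A G, isInvertible_tensorMod hA hG, ?_⟩
    have key : ∀ P, PicF.IsInvertible P → num (CohB1.tensorMod A G) P =
        num A P - d₁ A * d₂ P - d₂ A * d₁ P := fun P hP => by
      have h1 := IntNum.intNum_pair_tensor_left hfin hdim.le hA hG hP hO
      have h2 := hEP P hP
      have h3 := hFP P hP
      simp only [num] at h1 h2 h3 ⊢
      rw [h1, hGP P hP, h2, h3]
      ring
    refine ⟨?_, ?_, key⟩
    · rw [key E hE, hcomm A E, hEP A hA]
      have e1 := hEP E hE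
      have e2 := hFP E hE
      rw [hEE] at e1
      rw [hcomm F E, hEF] at e2
      rw [show d₂ E = 0 by omega, show d₁ E = -1 by omega]
      ring
    · rw [key F hF, hcomm A F, hFP A hA]
      have e1 := hEP F hF
      have e2 := hFP F hF
      rw [hEF] at e1
      rw [hFF] at e2
      rw [show d₂ F = -1 by omega, show d₁ F = 0 by omega]
      ring
  have hneg : ∀ A, PicF.IsInvertible A → num A E = 0 → num A F = 0 → num A A ≤ 0 :=
    fun A hA hAE hAF => by
      refine nonpos_of_orth_pos (k := k) hdim hH hW hA hWW ?_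
      rw [IntNum.intNum_pair_comm, hWP A hA]
      rw [hcomm] at hAE hAF
      simp only [num] at hAE hAF
      rw [hAE, hAF]
      ring
  obtain ⟨hMi, hMi'⟩ : PicF.IsInvertible M ∧ PicF.IsInvertible M' :=
    ⟨TensorMod.TensorInv.isInvertible_of_tensor_iso (TensorMod.Basic.comm M L ≪≫ hM.some),
      TensorMod.TensorInv.isInvertible_of_tensor_iso (TensorMod.Basic.comm M' L' ≪≫ hM'.some)⟩
  have hMM : ∀ {A B A' B' : (S k C₁ C₂).Modules}, PicF.IsInvertible A → PicF.IsInvertible A' →
      PicF.IsInvertible B → PicF.IsInvertible B' →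
      (CohB1.tensorMod A A' ≅ Coh.structureModule _) →
      (CohB1.tensorMod B B' ≅ Coh.structureModule _) → num A' B' = num A B := by
    intro A B A' B' hA hA' hB hB' eA eB
    simp only [num]
    rw [IntNum.intNum_pair_inverse hfin hdim.le hA hA' eA hB' hO, IntNum.intNum_pair_comm A B',
      IntNum.intNum_pair_inverse hfin hdim.le hB hB' eB hA hO, IntNum.intNum_pair_comm B A, neg_neg]
  obtain ⟨A, hA, hAE, hAF, hAP⟩ := prim L hL
  obtain ⟨B, hB, hBE, hBF, hBP⟩ := prim L' hL'
  have hAL : num A A = num L L - 2 * d₁ L * d₂ L := by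
    have e1 := hAP L hL
    have e2 := hAP A hA
    rw [hcomm L A, e1] at e2
    rw [e2]
    have e3 := hEP A hA
    have e4 := hFP A hA
    rw [hcomm, hAE] at e3
    rw [hcomm, hAF] at e4
    rw [show d₂ A = 0 by omega, show d₁ A = 0 by omega]
    ring
  have hBL : num B B = num L' L' - 2 * d₁ L' * d₂ L' := by
    have e1 := hBP L' hL'
    have e2 := hBP B hB
    rw [hcomm L' B, e1] at e2
    rw [e2]
    have e3 := hEP B hB
    have e4 := hFP B hB
    rw [hcomm, hBE] at e3
    rw [hcomm, hBF] at e4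
    rw [show d₂ B = 0 by omega, show d₁ B = 0 by omega]
    ring
  have hABL : num A B = num L L' - d₁ L * d₂ L' - d₂ L * d₁ L' := by
    have e1 := hBP L hL
    have e2 := hAP B hB
    rw [hcomm L B, e1] at e2
    rw [e2]
    have e3 := hEP B hB
    have e4 := hFP B hB
    rw [hcomm, hBE] at e3
    rw [hcomm, hBF] at e4
    rw [show d₂ B = 0 by omega, show d₁ B = 0 by omega, hcomm L' L]
    ring
  set a := num A A
  set b := num A B
  set c := num B B
  have hform : ∀ s t : ℤ, a * s ^ 2 + 2 * b * s * t + c * t ^ 2 ≤ 0 := by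
    intro s t
    obtain ⟨G, hG, hGP⟩ := NefInt.exists_comb (k := k) hdim hA hB s t
    have h := hneg G hG (by
      simp only [num] at hAE hBE ⊢
      rw [hGP E hE, hAE, hBE]; ring) (by
      simp only [num] at hAF hBF ⊢
      rw [hGP F hF, hAF, hBF]; ring)
    have h2 := NefInt.sq_comb (k := k) hdim hA hB hG s t hGP
    simp only [num] at h
    rw [h2] at h
    simp only [a, b, c, num]
    linarith
  have ha : a ≤ 0 := hneg A hA hAE hAF
  have hc : c ≤ 0 := hneg B hB hBE hBF
  have hCS : b ^ 2 ≤ a * c := by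
    rcases ha.lt_or_eq with ha' | ha'
    · have h := hform b (-a)
      nlinarith
    · have h1 := hform (c.natAbs + 1) 1
      have h2 := hform (-(c.natAbs + 1 : ℤ)) 1
      rw [ha'] at h1 h2 ⊢
      have : b = 0 := by
        by_contra hb
        have hcn : -(c.natAbs : ℤ) ≤ c := by omega
        rcases lt_or_gt_of_ne hb with hb' | hb'
        · nlinarith
        · nlinarith
      rw [this]
      norm_num
  show num M M ≤ 2 * d₁ L * d₂ L ∧ (num M M' - d₁ L * d₂ L' - d₂ L * d₁ L') ^ 2 ≤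
    (2 * d₁ L * d₂ L - num M M) * (2 * d₁ L' * d₂ L' - num M' M')
  rw [hMM hL hMi hL hMi hM.some hM.some, hMM hL hMi hL' hMi' hM.some hM'.some,
    hMM hL' hMi' hL' hMi' hM'.some hM'.some]
  exact ⟨by linarith, by rw [← hABL]; nlinarith⟩

end Main

end Groth.Agent.Lib.IntTheory.ProductCurves
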