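import Groth.Agent.Lib.Snapper.IntNum
import Groth.Agent.Lib.VarDim.Basic

/-!
# Additive functions on coherent modules vanishing below a given dimension
-/

set_option autoImplicit false
universe u

open CategoryTheory CategoryTheory.Limits AlgebraicGeometry TopologicalSpace

namespace Groth.Agent.Lib.IntTheory.Additive

open Groth.Agent.Lib Groth.Agent.Lib.Snapper
open Groth.Agent.Lib.Devissage.Basic (CohIn)

variable {X : Scheme.{u}}

/-- An additive function on coherent modules. -/
structure IsAdd (φ : X.Modules → ℤ) : Prop where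
  iso : ∀ {F G : X.Modules}, (F ≅ G) → φ F = φ G
  zero : ∀ {F : X.Modules}, IsZero F → φ F = 0
  add : ∀ {S : ShortComplex X.Modules}, S.ShortExact → Coh.IsCoh S.X₁ → Coh.IsCoh S.X₂ →
    Coh.IsCoh S.X₃ → φ S.X₂ = φ S.X₁ + φ S.X₃

/-- The function vanishes on coherent modules with support of dimension `< n`. -/
def VanishBelow (φ : X.Modules → ℤ) (n : ℕ) : Prop :=
  ∀ F : X.Modules, Coh.IsCoh F → topologicalKrullDim (CohB1.support F) < (n : WithBot ℕ∞) → φ F = 0

theorem IsAdd.sub {φ ψ : X.Modules → ℤ} (hφ : IsAdd φ) (hψ : IsAdd ψ) :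
    IsAdd (fun F => φ F - ψ F) where
  iso e := by simp only [hφ.iso e, hψ.iso e]
  zero h := by simp only [hφ.zero h, hψ.zero h, sub_self]
  add hS h₁ h₂ h₃ := by simp only [hφ.add hS h₁ h₂ h₃, hψ.add hS h₁ h₂ h₃]; ring

variable [IsNoetherian X] {φ : X.Modules → ℤ} {n : ℕ}

/-- The points of a set with closure of dimension `n`. -/
def topPts (T : Set X) (n : ℕ) : Set X :=
  {y | y ∈ T ∧ topologicalKrullDim (closure {y} : Set X) = n}

omit [AlgebraicGeometry.IsNoetherian X] in
theorem maximal_of_topPts {T : Set X} (hT : IsClosed T) (hd : topologicalKrullDim T ≤ n) {y : X}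
    (hy : y ∈ topPts T n) : ∀ z ∈ T, z ⤳ y → z = y := fun _ hz hzy =>
  Devissage.Dim.eq_of_specializes hzy hy.2 ((Devissage.Dim.dim_closure_le hT hz).trans hd)

theorem finite_topPts {T : Set X} (hT : IsClosed T) (hd : topologicalKrullDim T ≤ n) :
    (topPts T n).Finite :=
  (Devissage.Dim.finite_maximal hT).subset fun _ hy => ⟨hy.1, maximal_of_topPts hT hd hy⟩

/-- The value of an additive function vanishing below `n` on a module with support of dimension `≤ n`. -/
theorem eq_sum (hφ : IsAdd φ) (hv : VanishBelow φ n) {F : X.Modules} (hF : Coh.IsCoh F)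
    {T : Closeds X} (hFT : CohB1.support F ⊆ T) (hd : topologicalKrullDim (T : Set X) ≤ n) :
    φ F = ∑ y ∈ (finite_topPts T.isClosed hd).toFinset,
      ((Module.length (X.presheaf.stalk y) (F.presheaf.stalk y)).toNat : ℤ) *
        φ (Cyc.closureStructureSheaf y) := by
  classical
  set S := (finite_topPts T.isClosed hd).toFinset
  have hlen : ∀ H : X.Modules, CohIn (T : Set X) H → ∀ y ∈ S,
      Module.length (X.presheaf.stalk y) (H.presheaf.stalk y) ≠ ⊤ := fun H hH y hy =>
    Cyc.SheafLen.length_ne_top hH.1 y fun z hzy hz =>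
      maximal_of_topPts T.isClosed hd ((Set.Finite.mem_toFinset _).1 hy) z
        (hH.2 (not_subsingleton_iff_nontrivial.mpr hz)) hzy
  refine ProperFin.Devissage.devissage
    (fun H => φ H = ∑ y ∈ S, ((Module.length (X.presheaf.stalk y) (H.presheaf.stalk y)).toNat : ℤ) *
      φ (Cyc.closureStructureSheaf y))
    T ⟨fun H hH => ?_, fun Q hQ h₁ h₂ h₃ => ?_⟩ ?_ F ⟨hF, hFT⟩
  · rw [hφ.zero hH, Finset.sum_eq_zero fun y _ => ?_]
    have : Subsingleton (H.presheaf.stalk y) := Modules.Support.not_mem_support_iff.mp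
      (by rw [Modules.Support.support_eq_empty_iff.mpr hH]; simp)
    simp [Module.length_eq_zero]
  · have e := hφ.add hQ h₁.1 h₂.1 h₃.1
    have e' : ∑ y ∈ S, ((Module.length (X.presheaf.stalk y) (Q.X₂.presheaf.stalk y)).toNat : ℤ) *
          φ (Cyc.closureStructureSheaf y) =
        (∑ y ∈ S, ((Module.length (X.presheaf.stalk y) (Q.X₁.presheaf.stalk y)).toNat : ℤ) *
          φ (Cyc.closureStructureSheaf y)) +
        ∑ y ∈ S, ((Module.length (X.presheaf.stalk y) (Q.X₃.presheaf.stalk y)).toNat : ℤ) *
          φ (Cyc.closureStructureSheaf y) := by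
      rw [← Finset.sum_add_distrib]
      refine Finset.sum_congr rfl fun y hy => ?_
      rw [Cyc.SheafLen.length_additive Q hQ y, ENat.toNat_add (hlen _ h₁ y hy) (hlen _ h₃ y hy)]
      push_cast
      ring
    exact ⟨fun a b => by linarith, fun a b => by linarith, fun a b => by linarith⟩
  · intro z hz
    refine ⟨Cyc.closureStructureSheaf z, Devissage.Closure.cohIn_closureStructureSheaf z,
      Devissage.Closure.length_closureStructureSheaf z, ?_⟩
    have hne : ∀ y ∈ S, y ≠ z → Subsingleton ((Cyc.closureStructureSheaf z).presheaf.stalk y) :=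
      fun y hy hyz => Modules.Support.not_mem_support_iff.mp fun h => hyz
        (maximal_of_topPts T.isClosed hd ((Set.Finite.mem_toFinset _).1 hy) z hz
          (specializes_iff_mem_closure.mpr (Devissage.Closure.support_closureStructureSheaf z h))).symm
    by_cases hzS : z ∈ S
    · rw [Finset.sum_eq_single_of_mem z hzS fun y hy hyz => by
        have := hne y hy hyz
        simp [Module.length_eq_zero], Devissage.Closure.length_closureStructureSheaf z]
      simp
    · have hlt : topologicalKrullDim (closure {z} : Set X) < (n : WithBot ℕ∞) :=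
        lt_of_le_of_ne ((Devissage.Dim.dim_closure_le T.isClosed hz).trans hd)
          fun e => hzS ((Set.Finite.mem_toFinset _).2 ⟨hz, e⟩)
      rw [hv _ (Devissage.Closure.isCoh_closureStructureSheaf z)
        (lt_of_le_of_lt (Devissage.Dim.dim_mono (Devissage.Closure.support_closureStructureSheaf z)) hlt),
        Finset.sum_eq_zero fun y hy => ?_]
      have := hne y hy fun e => hzS (e ▸ hy)
      simp [Module.length_eq_zero]

theorem eq_zero (hφ : IsAdd φ) (hv : VanishBelow φ n) {F : X.Modules} (hF : Coh.IsCoh F)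
    (hd : topologicalKrullDim (CohB1.support F) ≤ n)
    (hy : ∀ y ∈ topPts (CohB1.support F) n, φ (Cyc.closureStructureSheaf y) = 0) : φ F = 0 := by
  have := hF.2
  rw [eq_sum hφ hv hF (T := ⟨_, Modules.Support.isClosed_support F⟩) subset_rfl hd]
  exact Finset.sum_eq_zero fun y h => by rw [hy y ((Set.Finite.mem_toFinset _).1 h), mul_zero]

/-- An additive function vanishing below `n` is unchanged by twists in dimension `≤ n`. -/
theorem twist_eq (hφ : IsAdd φ) (hv : VanishBelow φ n) {M : X.Modules} (hM : PicF.IsInvertible M)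
    {F : X.Modules} (hF : Coh.IsCoh F) (hd : topologicalKrullDim (CohB1.support F) ≤ n) :
    φ (CohB1.tensorMod M F) = φ F := by
  have := hF.2
  let T : Closeds X := ⟨_, Modules.Support.isClosed_support F⟩
  rw [eq_sum hφ hv hF (T := T) subset_rfl hd,
    eq_sum hφ hv (Twist.isCoh_twist hM hF) (T := T) (Twist.support_twist hM F).subset hd]
  exact Finset.sum_congr rfl fun y _ => by rw [Twist.length_twist hM]

omit [AlgebraicGeometry.IsNoetherian X] in
/-- A closed set of dimension exactly `n` has a point with closure of dimension `n`. -/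
theorem topPts_nonempty {k : Type u} [Field k] (f : X ⟶ Spec (CommRingCat.of k))
    [LocallyOfFiniteType f] {T : Set X} (hT : IsClosed T) (hd : topologicalKrullDim T = n) :
    (topPts T n).Nonempty := by
  have hne : T.Nonempty := by
    rw [Set.nonempty_iff_ne_empty]
    rintro rfl
    have h := (VarDim.Basic.topologicalKrullDim_le_iff f hT.isLocallyClosed ⊥).2 (by simp)
    rw [hd, le_bot_iff] at h
    exact WithBot.coe_ne_bot h
  by_contra hcon
  have hlt : ∀ x ∈ T, VarDim.Basic.pdim f x < n := by
    intro x hx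
    have hle : (VarDim.Basic.pdim f x : WithBot ℕ∞) ≤ (n : WithBot ℕ∞) :=
      hd ▸ VarDim.Basic.pdim_le_topologicalKrullDim f hT.isLocallyClosed hx
    refine lt_of_le_of_ne (by exact_mod_cast hle) fun e => hcon ⟨x, hx, ?_⟩
    rw [VarDim.Basic.topologicalKrullDim_isGenericPoint f
      (show IsGenericPoint x (closure ({x} : Set X)) from rfl), e]
  obtain ⟨x, hx⟩ := hne
  obtain ⟨m, rfl⟩ : ∃ m, n = m + 1 := ⟨n - 1, by have := hlt x hx; omega⟩
  have h := (VarDim.Basic.topologicalKrullDim_le_iff f hT.isLocallyClosed (m : WithBot ℕ∞)).2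
    fun y hy => by exact_mod_cast Nat.le_of_lt_succ (hlt y hy)
  rw [hd] at h
  exact absurd (show m + 1 ≤ m by exact_mod_cast h) (by omega)

/-- Positivity on the top-dimensional points gives positivity. -/
theorem pos {k : Type u} [Field k] (f : X ⟶ Spec (CommRingCat.of k)) [LocallyOfFiniteType f]
    (hφ : IsAdd φ) (hv : VanishBelow φ n) {F : X.Modules} (hF : Coh.IsCoh F)
    (hd : topologicalKrullDim (CohB1.support F) = n)
    (hy : ∀ y ∈ topPts (CohB1.support F) n, 0 < φ (Cyc.closureStructureSheaf y)) : 0 < φ F := by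
  have := hF.2
  rw [eq_sum hφ hv hF (T := ⟨_, Modules.Support.isClosed_support F⟩) subset_rfl hd.le]
  obtain ⟨y, hy'⟩ := topPts_nonempty f (Modules.Support.isClosed_support F) hd
  refine Finset.sum_pos (fun z hz => ?_) ⟨y, (Set.Finite.mem_toFinset _).2 hy'⟩
  have hzT := (Set.Finite.mem_toFinset _).1 hz
  refine mul_pos (Int.natCast_pos.2 ?_) (hy z hzT)
  have : Nontrivial (F.presheaf.stalk z) := not_subsingleton_iff_nontrivial.mp hzT.1
  have h1 : Module.length (X.presheaf.stalk z) (F.presheaf.stalk z) ≠ ⊤ :=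
    Cyc.SheafLen.length_ne_top hF z fun w hwz hw =>
      maximal_of_topPts (Modules.Support.isClosed_support F) hd.le hzT w
        (not_subsingleton_iff_nontrivial.mpr hw) hwz
  have h2 : 0 < Module.length (X.presheaf.stalk z) (F.presheaf.stalk z) := Module.length_pos
  exact Nat.pos_of_ne_zero fun h => by
    rcases ENat.toNat_eq_zero.1 h with h | h
    · exact h2.ne' h
    · exact h1 h

/-- The symbol as an additive function. -/
theorem isAdd_sym {k : Type u} [Field k] [X.Over (Spec (CommRingCat.of k))] {d : ℕ}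
    (hfin : Chi.CohFinite k X) (hd : topologicalKrullDim X ≤ d) {l : List X.Modules}
    (hl : ∀ M ∈ l, PicF.IsInvertible M) : IsAdd (Vanish.sym k X d l) :=
  ⟨fun e => Vanish.sym_of_iso l e, fun h => Vanish.sym_isZero l hl h,
    fun hS h₁ h₂ h₃ => Vanish.sym_add hfin hd l hl hS h₁ h₂ h₃⟩

theorem vanishBelow_sym {k : Type u} [Field k] [X.Over (Spec (CommRingCat.of k))] {d : ℕ}
    (hfin : Chi.CohFinite k X) (hd : topologicalKrullDim X ≤ d) {l : List X.Modules}
    (hl : ∀ M ∈ l, PicF.IsInvertible M) (hn : l.length = n) : VanishBelow (Vanish.sym k X d l) n :=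
  fun F hF h => Vanish.sym_eq_zero hfin hd l hl F hF (hn ▸ h)

end Groth.Agent.Lib.IntTheory.Additive
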