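import Groth.Agent.Lib.IntTheory.Additive
import Groth.Agent.Lib.Snapper.Finite
import Groth.Agent.Lib.SurfInt.PowExpansion

/-!
# Intersection symbols: linearity and dependence on the degrees on curves
-/

set_option autoImplicit false
universe u

open CategoryTheory CategoryTheory.Limits AlgebraicGeometry TopologicalSpace

namespace Groth.Agent.Lib.IntTheory.Basic

open Groth.Agent.Lib Groth.Agent.Lib.Snapper Groth.Agent.Lib.IntTheory.Additive
open Groth.Agent.Lib.Snapper.Vanish (sym sym_cons)
open Groth.Agent.Lib.TensorMod.Basic (leftUnit)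
open Groth.Agent.Lib.TensorMod.Invertible (isInvertible_tensorPow)

variable {k : Type u} [Field k] {X : Scheme.{u}} [X.Over (Spec (CommRingCat.of k))] {d : ℕ}

/-- The same degree on every curve. -/
def CurveEq (k : Type u) [Field k] {X : Scheme.{u}} [X.Over (Spec (CommRingCat.of k))] (d : ℕ)
    (M M' : X.Modules) : Prop :=
  ∀ y : X, topologicalKrullDim (closure {y} : Set X) = 1 →
    sym k X d [M] (Cyc.closureStructureSheaf y) = sym k X d [M'] (Cyc.closureStructureSheaf y)

variable [IsNoetherian X] (hfin : Chi.CohFinite k X) (hd : topologicalKrullDim X ≤ d)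

include hfin hd

omit hfin hd [Field k] [X.Over (Spec (CommRingCat.of k))] [AlgebraicGeometry.IsNoetherian X] in
theorem dim_lt_add_two {F : X.Modules} {n : ℕ}
    (h : topologicalKrullDim (CohB1.support F) ≤ (n + 1 : ℕ)) :
    topologicalKrullDim (CohB1.support F) < ((n + 2 : ℕ) : WithBot ℕ∞) :=
  lt_of_le_of_lt h (by exact_mod_cast Nat.lt_succ_self (n + 1))

/-- Powers. -/
theorem sym_pow {L : X.Modules} (hL : PicF.IsInvertible L) {l : List X.Modules}
    (hl : ∀ M ∈ l, PicF.IsInvertible M) {F : X.Modules} (hF : Coh.IsCoh F)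
    (hr : topologicalKrullDim (CohB1.support F) ≤ (l.length + 1 : ℕ)) :
    ∀ n : ℕ, sym k X d (CohB1.tensorPow L n :: l) F = n * sym k X d (L :: l) F
  | 0 => by rw [Nat.cast_zero, zero_mul]; exact IntNum.sym_structure l F
  | n + 1 => by
    rw [show CohB1.tensorPow L (n + 1) = CohB1.tensorMod (CohB1.tensorPow L n) L from rfl,
      IntNum.sym_tensor_of_dim hfin hd (isInvertible_tensorPow hL n) hL l hl hF (dim_lt_add_two hr),
      sym_pow hL hl hF hr n]
    push_cast
    ring

/-- Twists do not change a symbol in dimension at most the number of entries. -/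
theorem sym_twist {l : List X.Modules} (hl : ∀ M ∈ l, PicF.IsInvertible M) {N : X.Modules}
    (hN : PicF.IsInvertible N) {F : X.Modules} (hF : Coh.IsCoh F)
    (hr : topologicalKrullDim (CohB1.support F) ≤ l.length) :
    sym k X d l (CohB1.tensorMod N F) = sym k X d l F :=
  twist_eq (isAdd_sym hfin hd hl) (vanishBelow_sym hfin hd hl rfl) hN hF hr

/-- The symbol only depends on the degrees on curves. -/
theorem sym_congr : ∀ (n : ℕ) (l l' : List X.Modules), l.length = n →
    (∀ M ∈ l, PicF.IsInvertible M) → (∀ M ∈ l', PicF.IsInvertible M) →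
    List.Forall₂ (CurveEq k d) l l' → ∀ (F : X.Modules), Coh.IsCoh F →
    topologicalKrullDim (CohB1.support F) ≤ n → sym k X d l F = sym k X d l' F := by
  intro n
  induction n with
  | zero =>
    intro l l' hlen _ _ hll F _ _
    obtain rfl := List.length_eq_zero_iff.1 hlen
    obtain rfl := List.forall₂_nil_left_iff.1 hll
    rfl
  | succ n IH =>
    have tail : ∀ (M : X.Modules) (l l' : List X.Modules), PicF.IsInvertible M → l.length = n →
        (∀ M ∈ l, PicF.IsInvertible M) → (∀ M ∈ l', PicF.IsInvertible M) →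
        List.Forall₂ (CurveEq k d) l l' → ∀ (F : X.Modules), Coh.IsCoh F →
        topologicalKrullDim (CohB1.support F) ≤ (n + 1 : ℕ) →
        sym k X d (M :: l) F = sym k X d (M :: l') F := by
      intro M l l' hM hlen hl hl' hll F hF hr
      have h := twist_eq ((isAdd_sym hfin hd hl).sub (isAdd_sym hfin hd hl')) (n := n + 1)
        (fun G hG hlt => sub_eq_zero.2 (IH l l' hlen hl hl' hll G hG (Vanish.le_of_lt_succ hlt)))
        hM hF hr
      rw [sym_cons, sym_cons]
      linarith
    intro L L' hlen hl hl' hll F hF hr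
    obtain ⟨M, l, rfl⟩ := List.exists_cons_of_ne_nil (l := L) (by rintro rfl; simp at hlen)
    obtain ⟨M', l', hMM, hll', rfl⟩ := List.forall₂_cons_left_iff.1 hll
    simp only [List.length_cons, add_left_inj] at hlen
    have hM := hl M List.mem_cons_self
    have hM' := hl' M' List.mem_cons_self
    have hlt : ∀ N ∈ l, PicF.IsInvertible N := fun N hN => hl N (List.mem_cons_of_mem _ hN)
    have hlt' : ∀ N ∈ l', PicF.IsInvertible N := fun N hN => hl' N (List.mem_cons_of_mem _ hN)
    suffices head : sym k X d (M :: l) F = sym k X d (M' :: l) F from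
      head.trans (tail M' l l' hM' hlen hlt hlt' hll' F hF hr)
    cases l with
    | nil =>
      obtain rfl : n = 0 := hlen.symm
      have h1 : ∀ P : X.Modules, PicF.IsInvertible P → ∀ Q ∈ [P], PicF.IsInvertible Q :=
        fun P hP Q hQ => (List.mem_singleton.1 hQ) ▸ hP
      exact sub_eq_zero.1 (Additive.eq_zero (n := 1)
        ((isAdd_sym hfin hd (h1 M hM)).sub (isAdd_sym hfin hd (h1 M' hM')))
        (fun G hG hlt => by
          simp only
          rw [vanishBelow_sym hfin hd (h1 M hM) rfl G hG hlt,
            vanishBelow_sym hfin hd (h1 M' hM') rfl G hG hlt, sub_self])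
        hF hr fun y hy => sub_eq_zero.2 (hMM y hy.2))
    | cons N l =>
      rw [IntNum.sym_swap M N, IntNum.sym_swap M' N]
      have hrefl : ∀ l : List X.Modules, List.Forall₂ (CurveEq k d) l l := fun l =>
        List.forall₂_same.2 fun P _ y _ => rfl
      refine tail N (M :: l) (M' :: l) (hlt N List.mem_cons_self) (by simpa using hlen) ?_ ?_
        (List.Forall₂.cons hMM (hrefl l)) F hF hr
      · exact List.forall_mem_cons.2 ⟨hM, fun P hP => hlt P (List.mem_cons_of_mem _ hP)⟩
      · exact List.forall_mem_cons.2 ⟨hM', fun P hP => hlt P (List.mem_cons_of_mem _ hP)⟩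

end Groth.Agent.Lib.IntTheory.Basic
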