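import Groth.Agent.Lib.IntTheory.Curves
import Groth.Agent.Lib.SurfInt.Push
import Groth.Agent.Lib.SurfInt.CokerCodim
import Groth.Agent.Lib.Curves.Positivity
import Groth.Agent.Lib.Curves.GlobalSections
import Groth.Agent.Lib.SurfInt.Pencil
import Groth.Agent.Lib.DerivedOX.PushExact
import Groth.Agent.Lib.Cyc.Dev.SchemeEquiv

/-!
# Intersection numbers of ample modules are positive
-/

set_option autoImplicit false
universe u

open CategoryTheory CategoryTheory.Limits AlgebraicGeometry TopologicalSpace

namespace Groth.Agent.Lib.IntTheory.Positive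

open Groth.Agent.Lib Groth.Agent.Lib.Snapper Groth.Agent.Lib.SurfInt
open Groth.Agent.Lib.Snapper.Vanish (sym sym_cons sym_of_iso)
open Groth.Agent.Lib.TensorMod.Basic (comm tensorIso rightUnit)

/-- The support of a direct image along a closed immersion. -/
theorem support_push {Y X : Scheme.{u}} (i : Y ⟶ X) [IsClosedImmersion i] (Q : Y.Modules) :
    CohB1.support ((Coh.push i).obj Q) = i '' CohB1.support Q := by
  ext x
  by_cases hx : x ∈ Set.range i
  · obtain ⟨z, rfl⟩ := hx
    rw [i.isClosedEmbedding.injective.mem_set_image]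
    refine not_iff_not.2 ?_
    constructor
    · intro h
      exact Module.length_eq_zero_iff.1 ((Cyc.SheafLen.length_push_stalk i Q z).symm.trans
        (Module.length_eq_zero_iff.2 h))
    · intro h
      exact Module.length_eq_zero_iff.1 ((Cyc.SheafLen.length_push_stalk i Q z).trans
        (Module.length_eq_zero_iff.2 h))
  · refine iff_of_false (fun h => h ?_) fun ⟨z, _, hz⟩ => hx ⟨z, hz⟩
    exact Cyc.SheafLen.subsingleton_push_stalk i Q _ i.isClosedEmbedding.isClosed_range
      (fun z _ => ⟨z, rfl⟩) x hx

/-- On an integral scheme of finite type, a proper monomorphism of invertible modules has cokernel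
supported in dimension exactly one less. -/
theorem dim_support_coker {k : Type u} [Field k] {Y : Scheme.{u}} (f : Y ⟶ Spec (CommRingCat.of k))
    [LocallyOfFiniteType f] [IsIntegral Y] [IsLocallyNoetherian Y] {r : ℕ}
    (hdim : topologicalKrullDim Y = (r + 1 : ℕ)) {P : Y.Modules} (hP : PicF.IsInvertible P)
    (s : Coh.structureModule Y ⟶ P) (hs : genericPoint Y ∈ CohB1.genLocus P s)
    (hne : CohB1.genLocus P s ≠ ⊤) :
    Mono s ∧ topologicalKrullDim (CohB1.support (cokernel s)) = r := by
  have hη : VarDim.Basic.pdim f (genericPoint Y) = r + 1 := by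
    have h := VarDim.Basic.topologicalKrullDim_irreducibleSpace f
    rw [hdim] at h
    exact_mod_cast h.symm
  have hO : PicF.IsInvertible (Coh.structureModule Y) := PicLoc.isInvertible_structureModule Y
  have hs0 : s ≠ 0 := Pencil.ne_zero_of_mem_genLocus hP hs
  have hmono : Mono s := Curves.Positivity.mono_of_ne_zero hO hP hs0
  refine ⟨hmono, ?_⟩
  have hlf : ∀ {L : Y.Modules}, PicF.IsInvertible L → FlatMod.IsFinLocFree L := fun h =>
    TensorMod.LocFree.of_rank (TensorMod.LocFree.of_isInvertible h)
  -- the cokernel vanishes at the generic point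
  have hgen : genericPoint Y ∉ CohB1.support (cokernel s) := by
    intro h
    obtain ⟨U, hU, hxU⟩ : ∃ U : Y.Opens, IsIso ((Scheme.Modules.restrictFunctor U.ι).map s) ∧
        genericPoint Y ∈ U := Opens.mem_sSup.1 hs
    have hz : IsZero ((Scheme.Modules.restrictFunctor U.ι).obj (cokernel s)) := by
      refine IsZero.of_iso ?_ (PreservesCokernel.iso (Scheme.Modules.restrictFunctor U.ι) s)
      exact isZero_cokernel_of_epi _
    have he := Modules.Support.support_eq_empty_iff.2 hz
    rw [show (Scheme.Modules.restrictFunctor U.ι).obj (cokernel s) = (cokernel s).restrict U.ι from rfl,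
      Modules.Support.support_restrict] at he
    exact Set.eq_empty_iff_forall_notMem.1 he ⟨_, hxU⟩ h
  have hcoh : Coh.IsCoh (cokernel s) := CohBasics.Closure.isCoh_cokernel s
    (Snapper.Twist.isCoh_structureModule Y).1 (Ample.GG.isCoh_of_isInvertible hP)
  have := hcoh.2
  have hcl := Modules.Support.isClosed_support (cokernel s)
  have hle : ∀ x ∈ CohB1.support (cokernel s), VarDim.Basic.pdim f x ≤ r := by
    intro x hx
    have hne : genericPoint Y ≠ x := fun e => hgen (e ▸ hx)
    have := VarDim.Basic.pdim_lt f ((genericPoint_spec Y).specializes (Set.mem_univ x)) hne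
    omega
  rcases CokerCodim.isIso_or_exists (hlf hO) (hlf hP) s with hiso | ⟨z, hz, hdz⟩
  · exfalso
    apply hne
    have e : s = 𝟙 _ ≫ (asIso s).hom := by simp
    rw [e, Ample.GenLocus.genLocus_comp_iso, Ample.GenLocus.genLocus_id]
  · have hzη : genericPoint Y ≠ z := fun e => hgen (e ▸ hz)
    obtain ⟨w, h1, h2, h3⟩ := VarDim.Basic.exists_step_below f
      ((genericPoint_spec Y).specializes (Set.mem_univ z)) hzη
    have hwz : w = z := by
      by_contra hwz
      obtain ⟨p, hp⟩ : w ∈ Set.range (Y.fromSpecStalk z) := by
        rw [Scheme.range_fromSpecStalk]; exact h2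
      obtain ⟨q, hq⟩ : genericPoint Y ∈ Set.range (Y.fromSpecStalk z) := by
        rw [Scheme.range_fromSpecStalk]; exact (genericPoint_spec Y).specializes (Set.mem_univ z)
      have hm : (Y.fromSpecStalk z) (IsLocalRing.closedPoint _) = z := Scheme.fromSpecStalk_closedPoint
      have : Ring.KrullDimLE 1 (Y.presheaf.stalk z) := Ring.krullDimLE_iff.2 (by exact_mod_cast hdz)
      have hp0 : p.asIdeal ≠ ⊥ := by
        intro hp0
        have hqp : q = p := by
          have hbot : p ⤳ q := (PrimeSpectrum.le_iff_specializes p q).1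
            (show p.asIdeal ≤ q.asIdeal by rw [hp0]; exact bot_le)
          have hwη : w ⤳ genericPoint Y := hq ▸ hp ▸ hbot.map (Y.fromSpecStalk z).continuous
          exact (Y.fromSpecStalk z).isEmbedding.injective
            (by rw [hp, hq]; exact (h1.antisymm hwη).eq)
        have : genericPoint Y = w := by rw [← hp, ← hq, hqp]
        rw [← this] at h3
        omega
      have hpmax : p.asIdeal.IsMaximal := Ideal.IsPrime.isMaximal_of_ne_bot p.isPrime hp0
      exact hwz (hp.symm.trans ((congrArg (Y.fromSpecStalk z)
        (PrimeSpectrum.ext (IsLocalRing.eq_maximalIdeal hpmax) : p = IsLocalRing.closedPoint _)).trans hm))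
    subst hwz
    refine (VarDim.Basic.topologicalKrullDim_eq f hcl.isLocallyClosed hz fun x hx => ?_).trans ?_
    · have := hle x hx; omega
    · rw [show VarDim.Basic.pdim f w = r by omega]

variable {k : Type u} [Field k] {X : Scheme.{u}} [X.Over (Spec (CommRingCat.of k))]
  [IsProper (X ↘ Spec (CommRingCat.of k))] [IsNoetherian X] {d : ℕ}
  (hd : topologicalKrullDim X ≤ d)

include hd

omit hd in
/-- The Euler characteristic of the structure sheaf of a closed point is positive. -/
theorem euler_point_pos {y : X} (hy : topologicalKrullDim (closure {y} : Set X) = 0) :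
    0 < FGA.eulerCharLE k X (Cyc.closureStructureSheaf y) d := by
  have hcl : IsClosed ({y} : Set X) := by
    rw [← VarDim.Basic.pdim_eq_zero_iff (X ↘ Spec (CommRingCat.of k))]
    have h := VarDim.Basic.topologicalKrullDim_isGenericPoint (X ↘ Spec (CommRingCat.of k))
      (show IsGenericPoint y (closure ({y} : Set X)) from rfl)
    rw [hy] at h
    exact_mod_cast h.symm
  have hfin : ((IntMult.ptIdeal y).support : Set X).Finite := by
    rw [show ((IntMult.ptIdeal y).support : Set X) = closure {y} from rfl, hcl.closure_eq]
    exact Set.finite_singleton y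
  rw [show Cyc.closureStructureSheaf y = _root_.ClSub.quotMod (IntMult.ptIdeal y) from rfl,
    Push.eulerCharLE_quotMod_of_finite (IntMult.ptIdeal y) hfin]
  have : Module.Finite k (Coh.HH X (_root_.ClSub.quotMod (IntMult.ptIdeal y)) 0) :=
    Finite.cohFinite k X _ (Devissage.Closure.isCoh_closureStructureSheaf y) 0
  refine Int.natCast_pos.2 (Module.finrank_pos_iff.2 ?_)
  have hne := Curves.isIntegral_ptIdeal y
  let e := Sheaf.H.equiv₀ (Coh.toAb (_root_.ClSub.quotMod (IntMult.ptIdeal y)))
    (isTerminalTop (α := Opens X))
  have : Nontrivial Γ((IntMult.ptIdeal y).subscheme, ⊤) := inferInstance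
  exact e.toEquiv.nontrivial (β := Γ((IntMult.ptIdeal y).subscheme, ⊤))

/-- Ample entries against the structure sheaf of an integral subscheme of the same dimension. -/
theorem sym_closure_pos : ∀ (l : List X.Modules), (∀ M ∈ l, PicF.IsInvertible M) →
    (∀ M ∈ l, ∃ L : X.Modules, CohB1.IsAmple L ∧
      Nonempty (CohB1.tensorMod L M ≅ Coh.structureModule X)) →
    ∀ y : X, topologicalKrullDim (closure {y} : Set X) = l.length →
      0 < sym k X d l (Cyc.closureStructureSheaf y)
  | [], _, _, y, hy => euler_point_pos (by simpa using hy)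
  | M :: l, hl, hamp, y, hy => by
    have hfin := Finite.cohFinite k X
    have hM := hl M List.mem_cons_self
    have hl' : ∀ N ∈ l, PicF.IsInvertible N := fun N hN => hl N (List.mem_cons_of_mem _ hN)
    have hamp' := fun N hN => hamp N (List.mem_cons_of_mem M hN)
    obtain ⟨L, hL, ⟨e⟩⟩ := hamp M List.mem_cons_self
    obtain ⟨n, s, hys, haff⟩ := hL.2.2 y
    let I := IntMult.ptIdeal y
    let i := I.subschemeι
    let fY := i ≫ (X ↘ Spec (CommRingCat.of k))
    have : IsIntegral I.subscheme := Curves.isIntegral_ptIdeal y
    have : IsLocallyNoetherian I.subscheme := LocallyOfFiniteType.isLocallyNoetherian i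
    have hdimY : topologicalKrullDim I.subscheme = (l.length + 1 : ℕ) :=
      (Curves.dim_ptIdeal y).trans hy
    have hLn := TensorMod.Invertible.isInvertible_tensorPow hL.1 (n + 1)
    let sY : Coh.structureModule I.subscheme ⟶ (TensorMod.Pullback.pb i).obj (CohB1.tensorPow L (n + 1)) :=
      (PicLoc.pullbackStructureIso i).inv ≫ (TensorMod.Pullback.pb i).map s
    have hloc : CohB1.genLocus _ sY = i ⁻¹ᵁ CohB1.genLocus _ s :=
      Ample.GenLocus.genLocus_pullback i hLn s (PicLoc.pullbackStructureIso i).symm
    have hy' : y ∈ Set.range i := by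
      rw [Devissage.Closure.range_ptIdeal y]; exact subset_closure rfl
    obtain ⟨z, hz⟩ := hy'
    have hgen : genericPoint I.subscheme ∈ CohB1.genLocus _ sY := by
      refine ((genericPoint_spec I.subscheme).specializes (Set.mem_univ z)).mem_open
        (CohB1.genLocus _ sY).2 ?_
      rw [SetLike.mem_coe, hloc]
      change i z ∈ CohB1.genLocus _ s
      rw [hz]
      exact hys
    have hne : CohB1.genLocus _ sY ≠ ⊤ := by
      intro htop
      have haff' : IsAffineOpen (CohB1.genLocus _ sY) := hloc ▸ haff.preimage i
      rw [htop] at haff'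
      have : IsAffine (⊤ : I.subscheme.Opens) := haff'
      have : IsAffine I.subscheme := .of_isIso (Scheme.topIso I.subscheme).inv
      have : IsFinite fY := IsFinite.iff_isProper_and_isAffineHom.mpr ⟨inferInstance, inferInstance⟩
      have : Finite I.subscheme := by
        have h := Scheme.Hom.finite_preimage_singleton fY
          (IsLocalRing.closedPoint k : Spec (CommRingCat.of k))
        exact Set.finite_univ_iff.mp (h.subset fun x _ => Subsingleton.elim (α := PrimeSpectrum k) _ _)
      have : JacobsonSpace I.subscheme := LocallyOfFiniteType.jacobsonSpace fY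
      have h := topologicalKrullDim_zero_of_discreteTopology I.subscheme
      rw [hdimY] at h
      exact absurd (show l.length + 1 ≤ 0 by exact_mod_cast h) (by omega)
    obtain ⟨hmono, hdimQ⟩ := dim_support_coker fY hdimY (PicLoc.isInvertible_pullback i hLn) sY hgen hne
    have := DerivedOX.PushExact.preservesFiniteColimits_pushforward i
    have hS := (Devissage.Basic.exists_ses_mono sY).map_of_exact (Coh.push i)
    let Q := (Coh.push i).obj (cokernel sY)
    have hcohQ : Coh.IsCoh Q := Cyc.Dev.SchemeEquiv.isCoh_push i
      (CohBasics.Closure.isCoh_cokernel sY (Snapper.Twist.isCoh_structureModule _).1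
        (Ample.GG.isCoh_of_isInvertible (PicLoc.isInvertible_pullback i hLn)))
    have hsuppQ : topologicalKrullDim (CohB1.support Q) = l.length := by
      rw [support_push, ← hdimQ]
      exact ((i.isClosedEmbedding.isEmbedding.homeomorphImage _).isHomeomorph.topologicalKrullDim_eq).symm
    have hQpos : 0 < sym k X d l Q := Additive.pos (X ↘ Spec (CommRingCat.of k))
      (Additive.isAdd_sym hfin hd hl') (Additive.vanishBelow_sym hfin hd hl' rfl) hcohQ hsuppQ
      fun z hz => sym_closure_pos l hl' hamp' z hz.2
    have e₂ : CohB1.tensorMod (CohB1.tensorPow L (n + 1)) (Cyc.closureStructureSheaf y) ≅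
        (Coh.push i).obj ((TensorMod.Pullback.pb i).obj (CohB1.tensorPow L (n + 1))) :=
      (Modules.ProjFormula.projIso i (Modules.DualBasis.hasDBases_of_isFinLocFree
          (TensorMod.LocFree.of_rank (TensorMod.LocFree.of_isInvertible hLn)))).app
          (Coh.structureModule I.subscheme) ≪≫
        (Coh.push i).mapIso (rightUnit _)
    have hadd := (Additive.isAdd_sym hfin hd hl').add hS
      (Devissage.Closure.isCoh_closureStructureSheaf y)
      (Cyc.Dev.SchemeEquiv.isCoh_push i
        (Ample.GG.isCoh_of_isInvertible (PicLoc.isInvertible_pullback i hLn))) hcohQ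
    change sym k X d l ((Coh.push i).obj ((TensorMod.Pullback.pb i).obj (CohB1.tensorPow L (n + 1)))) =
      sym k X d l (Cyc.closureStructureSheaf y) + sym k X d l Q at hadd
    rw [← sym_of_iso l e₂] at hadd
    have hsupp : topologicalKrullDim (CohB1.support (Cyc.closureStructureSheaf y)) ≤
        (l.length + 1 : ℕ) :=
      (Devissage.Dim.dim_mono (Devissage.Closure.support_closureStructureSheaf y)).trans hy.le
    have hcohy := Devissage.Closure.isCoh_closureStructureSheaf y
    have hpow := Basic.sym_pow hfin hd hL.1 hl' hcohy hsupp (n + 1)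
    rw [sym_cons (CohB1.tensorPow L (n + 1)), hadd, IntNum.sym_inverse hfin hd hM hL.1
      (comm M L ≪≫ e) l hl' hcohy (Basic.dim_lt_add_two hsupp)] at hpow
    push_cast at hpow
    nlinarith

end Groth.Agent.Lib.IntTheory.Positive
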