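import Groth.Agent.Lib.IntTheory.Additive
import Groth.Agent.Lib.CohBasics.Closure
import Groth.Agent.Lib.QCoh.Pushforward
import Groth.Agent.Lib.RefHull.LocFree

/-!
# Coherent modules isomorphic on an open differ by modules supported off it
-/

set_option autoImplicit false
universe u

open CategoryTheory CategoryTheory.Limits AlgebraicGeometry TopologicalSpace

namespace Groth.Agent.Lib.IntTheory.Roof

open Groth.Agent.Lib
open Groth.Agent.Lib.Devissage.Basic (CohIn)

variable {X : Scheme.{u}} [IsNoetherian X]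

omit [AlgebraicGeometry.IsNoetherian X] in
/-- Restriction to an open preserves finite limits. -/
theorem preservesFiniteLimits_restrict (U : X.Opens) :
    PreservesFiniteLimits (Scheme.Modules.restrictFunctor U.ι) := by
  infer_instance

/-- An isomorphism on an open extends to a roof of coherent modules. -/
theorem exists_roof {A B : X.Modules} (hA : Coh.IsCoh A) (hB : Coh.IsCoh B) (U : X.Opens)
    (e : A.restrict U.ι ≅ B.restrict U.ι) :
    ∃ (G : X.Modules) (a : G ⟶ A) (b : G ⟶ B), Coh.IsCoh G ∧
      CohB1.support G ⊆ CohB1.support A ∪ CohB1.support B ∧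
      IsIso ((Scheme.Modules.restrictFunctor U.ι).map a) ∧
      IsIso ((Scheme.Modules.restrictFunctor U.ι).map b) := by
  have hF := preservesFiniteLimits_restrict U
  let F := Scheme.Modules.restrictFunctor U.ι
  let adj := Scheme.Modules.restrictAdjunction U.ι
  let η : B ⟶ (Scheme.Modules.pushforward U.ι).obj (F.obj B) := adj.unit.app B
  let α : A ⟶ (Scheme.Modules.pushforward U.ι).obj (F.obj B) := adj.homEquiv _ _ e.hom
  have hη : IsIso (F.map η) := by
    have h := adj.left_triangle_components B
    exact IsIso.of_isIso_fac_right h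
  have hα : IsIso (F.map α) := by
    have h : F.map α ≫ adj.counit.app (F.obj B) = e.hom := by
      exact (adj.homEquiv_counit _ _ α).symm.trans ((adj.homEquiv _ _).symm_apply_apply _)
    exact IsIso.of_isIso_fac_right h
  have hq : Coh.IsQCoh ((Scheme.Modules.pushforward U.ι).obj (F.obj B)) := by
    have : B.IsQuasicoherent := hB.1
    have : (F.obj B).IsQuasicoherent := (RefHull.LocFree.isCoh_restrict hB U).1
    exact QCoh.Pushforward.isQCoh_pushforward U.ι (M := F.obj B)
  have hAB := CohBasics.Closure.isCoh_biprod hA hB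
  let ι' := Abelian.PullbackToBiproductIsKernel.pullbackToBiproduct α η
  let iK : pullback α η ≅ kernel (biprod.desc α (-η)) :=
    (Abelian.PullbackToBiproductIsKernel.isLimitPullbackToBiproduct α η).conePointUniqueUpToIso
      (limit.isLimit _)
  have hsq := (IsPullback.of_hasPullback α η).map F
  refine ⟨pullback α η, pullback.fst α η, pullback.snd α η,
    CohBasics.Closure.isCoh_of_iso iK.symm (CohBasics.Closure.isCoh_kernel _ hAB hq), ?_,
    hsq.isIso_fst_of_isIso, hsq.isIso_snd_of_isIso⟩
  refine (Modules.Support.support_congr iK).subset.trans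
    ((Modules.Support.support_subset_of_mono (kernel.ι _)).trans ?_)
  exact (Modules.Support.support_eq_union_of_shortExact
    (ShortComplex.Splitting.ofHasBinaryBiproduct A B).shortExact).subset

omit [AlgebraicGeometry.IsNoetherian X] in
/-- The kernel and cokernel of a map iso on an open are supported off it. -/
theorem support_off {G A : X.Modules} (a : G ⟶ A) (U : X.Opens)
    (ha : IsIso ((Scheme.Modules.restrictFunctor U.ι).map a)) :
    CohB1.support (kernel a) ⊆ (U : Set X)ᶜ ∧ CohB1.support (cokernel a) ⊆ (U : Set X)ᶜ := by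
  have hF := preservesFiniteLimits_restrict U
  have key : ∀ P : X.Modules, IsZero ((Scheme.Modules.restrictFunctor U.ι).obj P) →
      CohB1.support P ⊆ (U : Set X)ᶜ := fun P hP x hx hxU => by
    have h : CohB1.support (P.restrict U.ι) = ∅ := Modules.Support.support_eq_empty_iff.2 hP
    rw [Modules.Support.support_restrict] at h
    exact Set.eq_empty_iff_forall_notMem.1 h ⟨x, hxU⟩ hx
  exact ⟨key _ ((isZero_kernel_of_mono _).of_iso (PreservesKernel.iso _ a)),
    key _ ((isZero_cokernel_of_epi _).of_iso (PreservesCokernel.iso _ a))⟩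

/-- An additive function vanishing off an open takes the same value on modules isomorphic on it. -/
theorem eq_of_iso_on {φ : X.Modules → ℤ} {T : Set X}
    (hadd : ∀ S : ShortComplex X.Modules, S.ShortExact → CohIn T S.X₁ → CohIn T S.X₂ → CohIn T S.X₃ →
      φ S.X₂ = φ S.X₁ + φ S.X₃)
    (hiso : ∀ {F G : X.Modules}, (F ≅ G) → φ F = φ G)
    {A B : X.Modules} (hA : CohIn T A) (hB : CohIn T B) (U : X.Opens)
    (e : A.restrict U.ι ≅ B.restrict U.ι)
    (hbad : ∀ K, CohIn (T ∩ (U : Set X)ᶜ) K → φ K = 0) : φ A = φ B := by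
  obtain ⟨G, a, b, hG, hsupp, ha, hb⟩ := exists_roof hA.1 hB.1 U e
  have hGT : CohIn T G := ⟨hG, hsupp.trans (Set.union_subset hA.2 hB.2)⟩
  suffices ∀ (P : X.Modules) (p : G ⟶ P), CohIn T P →
      IsIso ((Scheme.Modules.restrictFunctor U.ι).map p) → φ P = φ G from
    (this A a hA ha).trans (this B b hB hb).symm
  intro P p hP hp
  obtain ⟨hk, hc⟩ := support_off p U hp
  have hK : CohIn (T ∩ (U : Set X)ᶜ) (kernel p) :=
    ⟨CohBasics.Closure.isCoh_kernel p hG hP.1.1, fun x hx =>
      ⟨hGT.2 (Modules.Support.support_subset_of_mono (kernel.ι p) hx), hk hx⟩⟩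
  have hC : CohIn (T ∩ (U : Set X)ᶜ) (cokernel p) :=
    ⟨CohBasics.Closure.isCoh_cokernel p hG.1 hP.1, fun x hx =>
      ⟨hP.2 (Modules.Support.support_subset_of_epi (cokernel.π p) hx), hc hx⟩⟩
  have hI : CohIn T (Abelian.image p) :=
    ⟨CohBasics.Closure.isCoh_image p hG.1 hP.1,
      (Modules.Support.support_subset_of_mono (Abelian.image.ι p)).trans hP.2⟩
  have hle : ∀ {K : X.Modules}, CohIn (T ∩ (U : Set X)ᶜ) K → CohIn T K :=
    fun h => ⟨h.1, h.2.trans Set.inter_subset_left⟩
  let kI : kernel (Abelian.factorThruImage p) ≅ kernel p :=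
    (kernelCompMono (Abelian.factorThruImage p) (Abelian.image.ι p)).symm ≪≫
      kernelIsoOfEq (Abelian.image.fac p)
  let cI : cokernel (Abelian.image.ι p) ≅ cokernel p :=
    (cokernelEpiComp (Abelian.factorThruImage p) (Abelian.image.ι p)).symm ≪≫
      cokernelIsoOfEq (Abelian.image.fac p)
  have h1 := hadd _ (Devissage.Basic.exists_ses_epi (Abelian.factorThruImage p))
    ⟨CohBasics.Closure.isCoh_of_iso kI.symm hK.1, Modules.Support.support_congr kI ▸ (hle hK).2⟩ hGT hI
  have h2 := hadd _ (Devissage.Basic.exists_ses_mono (Abelian.image.ι p)) hI hP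
    ⟨CohBasics.Closure.isCoh_of_iso cI.symm hC.1, Modules.Support.support_congr cI ▸ (hle hC).2⟩
  dsimp only at h1 h2
  rw [hiso kI, hbad _ hK, zero_add] at h1
  rw [hiso cI, hbad _ hC, add_zero] at h2
  rw [h1, h2]

end Groth.Agent.Lib.IntTheory.Roof
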