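import Groth.Agent.Lib.IntTheory.Basic
import Groth.Agent.Lib.SurfInt.Surface
import Groth.Prelude.Def_Pic13

/-!
# The symbol on a curve is minus the degree
-/

set_option autoImplicit false
universe u

open CategoryTheory CategoryTheory.Limits AlgebraicGeometry TopologicalSpace

namespace Groth.Agent.Lib.IntTheory.Curves

open Groth.Agent.Lib Groth.Agent.Lib.Snapper Groth.Agent.Lib.SurfInt

variable {k : Type u} [Field k] {X : Scheme.{u}} [X.Over (Spec (CommRingCat.of k))]

omit [Field k] [X.Over (Spec (CommRingCat.of k))] in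
/-- The reduced closure of a point is integral. -/
theorem isIntegral_ptIdeal (y : X) : IsIntegral (IntMult.ptIdeal y).subscheme := by
  have : AlgebraicGeometry.IsReduced (IntMult.ptIdeal y).subscheme :=
    H75.RedSub.isReduced_vanishingIdeal _
  have : IrreducibleSpace (IntMult.ptIdeal y).subscheme := by
    let i := (IntMult.ptIdeal y).subschemeι
    obtain ⟨z, hz⟩ : y ∈ Set.range i := by
      rw [Devissage.Closure.range_ptIdeal y]; exact subset_closure rfl
    have hcl : closure {z} = Set.univ := by
      rw [i.isClosedEmbedding.isInducing.closure_eq_preimage_closure_image, Set.image_singleton, hz,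
        ← Devissage.Closure.range_ptIdeal y, Set.preimage_range]
    exact { isPreirreducible_univ := hcl ▸ isIrreducible_singleton.closure.2
            toNonempty := ⟨z⟩ }
  exact isIntegral_of_irreducibleSpace_of_isReduced _

omit [Field k] [X.Over (Spec (CommRingCat.of k))] in
theorem dim_ptIdeal (y : X) :
    topologicalKrullDim (IntMult.ptIdeal y).subscheme = topologicalKrullDim (closure {y} : Set X) :=
  Surface.dim_subscheme (IntMult.ptIdeal y)

variable [IsNoetherian X] {d : ℕ}

theorem sym_closure (hd : topologicalKrullDim X ≤ d) {y : X}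
    (hy : topologicalKrullDim (closure {y} : Set X) = 1) {M : X.Modules} (hM : PicF.IsInvertible M) :
    Vanish.sym k X d [M] (Cyc.closureStructureSheaf y) =
      - Pic13.curveDeg k ((IntMult.ptIdeal y).subschemeι ≫ (X ↘ Spec (CommRingCat.of k)))
          ((Scheme.Modules.pullback (IntMult.ptIdeal y).subschemeι).obj M) := by
  let I := IntMult.ptIdeal y
  let _ := Surface.overSub (k := k) I
  have : IsLocallyNoetherian I.subscheme := LocallyOfFiniteType.isLocallyNoetherian I.subschemeι
  have : CompactSpace I.subscheme := QuasiCompact.compactSpace_of_compactSpace I.subschemeι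
  have : IsNoetherian I.subscheme := ⟨⟩
  have hdI : topologicalKrullDim I.subscheme ≤ (1 : ℕ) := by
    rw [show I = IntMult.ptIdeal y from rfl, dim_ptIdeal, hy]; rfl
  show FGA.eulerCharLE k X (_root_.ClSub.quotMod I) d -
      FGA.eulerCharLE k X (CohB1.tensorMod M (_root_.ClSub.quotMod I)) d = _
  rw [← Chi.euler_eq_eulerCharLE hd, ← Chi.euler_eq_eulerCharLE hd, Surface.euler_twist_quot I hM,
    Surface.euler_quot I, Chi.euler_eq_eulerCharLE hdI, Chi.euler_eq_eulerCharLE hdI]
  exact (neg_sub _ _).symm

/-- Equal curve degrees, in terms of the symbol. -/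
theorem curveEq (hd : topologicalKrullDim X ≤ d) {M M' : X.Modules} (hM : PicF.IsInvertible M)
    (hM' : PicF.IsInvertible M')
    (h : ∀ (Y : Scheme.{u}) (ι : Y ⟶ X) [IsClosedImmersion ι], IsIntegral Y → topologicalKrullDim Y = 1 →
      Pic13.curveDeg k (ι ≫ (X ↘ Spec (CommRingCat.of k))) ((Scheme.Modules.pullback ι).obj M) =
        Pic13.curveDeg k (ι ≫ (X ↘ Spec (CommRingCat.of k))) ((Scheme.Modules.pullback ι).obj M')) :
    Basic.CurveEq k d M M' := fun y hy => by
  rw [sym_closure hd hy hM, sym_closure hd hy hM',
    h _ (IntMult.ptIdeal y).subschemeι (isIntegral_ptIdeal y) ((dim_ptIdeal y).trans hy)]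

end Groth.Agent.Lib.IntTheory.Curves
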