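import Groth.Agent.Lib.IntTheory.Roof
import Groth.Agent.Lib.IntTheory.Curves
import Groth.Agent.Lib.SurfInt.Push
import Groth.Agent.Lib.Cyc.PP.Epi
import Groth.Agent.Lib.Cyc.PP.Push
import Groth.Agent.Lib.VarDim.Fibre

/-!
# The projection formula for intersection symbols
-/

set_option autoImplicit false
set_option linter.unusedSectionVars false
universe u

open CategoryTheory CategoryTheory.Limits AlgebraicGeometry TopologicalSpace

namespace Groth.Agent.Lib.IntTheory.Push

open Groth.Agent.Lib Groth.Agent.Lib.Snapper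
open Groth.Agent.Lib.Devissage.Basic (CohIn)
open Groth.Agent.Lib.Snapper.Vanish (sym sym_cons sym_of_iso)
open Groth.Agent.Lib.TensorMod.Pullback (pb)
open Groth.Agent.Lib.TensorMod.Basic (tensorIso leftUnit)

section Dim

variable {k : Type u} [Field k] {X : Scheme.{u}} (f : X ⟶ Spec (CommRingCat.of k))
  [LocallyOfFiniteType f]

/-- A closed set all of whose points have dimension `< n` has dimension `< n`. -/
theorem dim_lt_of_pdim_lt {T : Set X} (hT : IsClosed T) {n : ℕ}
    (h : ∀ x ∈ T, VarDim.Basic.pdim f x < n) :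
    topologicalKrullDim T < (n : WithBot ℕ∞) := by
  cases n with
  | zero =>
    have h0 := (VarDim.Basic.topologicalKrullDim_le_iff f hT.isLocallyClosed ⊥).2
      fun x hx => absurd (h x hx) (by omega)
    exact lt_of_le_of_lt h0 (WithBot.bot_lt_coe _)
  | succ n =>
    refine lt_of_le_of_lt ((VarDim.Basic.topologicalKrullDim_le_iff f hT.isLocallyClosed (n : WithBot ℕ∞)).2
      fun x hx => by exact_mod_cast Nat.le_of_lt_succ (h x hx)) ?_
    exact_mod_cast Nat.lt_succ_self n

theorem pdim_closure_le {y : X} {w : X} (hw : w ∈ closure ({y} : Set X)) :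
    VarDim.Basic.pdim f w ≤ VarDim.Basic.pdim f y :=
  VarDim.Basic.pdim_le f (specializes_iff_mem_closure.2 hw)

theorem pdim_closure_lt {y : X} {w : X} (hw : w ∈ closure ({y} : Set X)) (hne : w ≠ y) :
    VarDim.Basic.pdim f w < VarDim.Basic.pdim f y :=
  VarDim.Basic.pdim_lt f (specializes_iff_mem_closure.2 hw) hne.symm

end Dim

variable {k : Type u} [Field k] {X X' : Scheme.{u}} [X.Over (Spec (CommRingCat.of k))]
  [X'.Over (Spec (CommRingCat.of k))]
  [IsProper (X ↘ Spec (CommRingCat.of k))] [IsProper (X' ↘ Spec (CommRingCat.of k))]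
  [IsNoetherian X] [IsNoetherian X']
  (g : X' ⟶ X) (hg : g ≫ (X ↘ Spec (CommRingCat.of k)) = X' ↘ Spec (CommRingCat.of k))

local notation "pX" => (X ↘ Spec (CommRingCat.of k))
local notation "pX'" => (X' ↘ Spec (CommRingCat.of k))

include hg in
theorem isProper : IsProper g := by
  have : IsProper (g ≫ pX) := by rw [hg]; infer_instance
  exact IsProper.of_comp g pX

include hg

/-- An infinite fibre contains a point of larger dimension. -/
theorem exists_pdim_lt {T : Set X'} (hT : IsClosed T) {x : X}
    (hinf : ¬ {w | g w = x ∧ w ∈ T}.Finite) :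
    ∃ w ∈ T, g w = x ∧ VarDim.Basic.pdim pX x < VarDim.Basic.pdim pX' w := by
  by_contra hcon
  push Not at hcon
  refine hinf ((Devissage.Dim.finite_maximal
    (hT.inter (isClosed_closure.preimage g.continuous : IsClosed (g ⁻¹' closure {x})))).subset ?_)
  rintro w ⟨hw, hwT⟩
  subst hw
  refine ⟨⟨hwT, subset_closure rfl⟩, fun z hz hzw => ?_⟩
  have h1 : g w ⤳ g z := specializes_iff_mem_closure.2 hz.2
  have h2 : g z ⤳ g w := hzw.map g.continuous
  have hle := hcon z hz.1 (h1.antisymm h2).eq.symm
  exact VarDim.Basic.eq_of_pdim_le pX' hzw (hle.trans (VarDim.Fibre.pdim_apply_le pX' pX g hg w))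

omit hg in
theorem isAdd' {d' : ℕ} (hd' : topologicalKrullDim X' ≤ d') {l : List X.Modules}
    (hl : ∀ M ∈ l, PicF.IsInvertible M) :
    Additive.IsAdd (sym k X' d' (l.map (pb g).obj)) :=
  Additive.isAdd_sym (Finite.cohFinite k X') hd' fun N hN => by
    obtain ⟨M, hM, rfl⟩ := List.mem_map.1 hN
    exact PicLoc.isInvertible_pullback g (hl M hM)

/-- The symbol of direct images is additive when the fibre jumps are small. -/
theorem add_push {d : ℕ} (hd : topologicalKrullDim X ≤ d) {l : List X.Modules}
    (hl : ∀ M ∈ l, PicF.IsInvertible M) {T : Set X'}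
    (hbad : ∀ x : X, ¬ {w | g w = x ∧ w ∈ T}.Finite → VarDim.Basic.pdim pX x < l.length)
    (S : ShortComplex X'.Modules) (hS : S.ShortExact) (h₁ : CohIn T S.X₁) (h₂ : CohIn T S.X₂)
    (h₃ : CohIn T S.X₃) :
    sym k X d l ((Coh.push g).obj S.X₂) =
      sym k X d l ((Coh.push g).obj S.X₁) + sym k X d l ((Coh.push g).obj S.X₃) := by
  have := isProper g hg
  have hfin := Finite.cohFinite k X
  have hadd := Additive.isAdd_sym hfin hd hl
  let π := (Coh.push g).map S.g
  have c₁ := Cyc.PP.Push.isCoh_push g h₁.1
  have c₂ := Cyc.PP.Push.isCoh_push g h₂.1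
  have c₃ := Cyc.PP.Push.isCoh_push g h₃.1
  have : Mono S.f := hS.mono_f
  let eK : kernel π ≅ (Coh.push g).obj S.X₁ :=
    (limit.isLimit _).conePointUniqueUpToIso
      (KernelFork.mapIsLimit _ hS.fIsKernel (Scheme.Modules.pushforward g))
  let kI : kernel (Abelian.factorThruImage π) ≅ kernel π :=
    (kernelCompMono (Abelian.factorThruImage π) (Abelian.image.ι π)).symm ≪≫
      kernelIsoOfEq (Abelian.image.fac π)
  let cI : cokernel (Abelian.image.ι π) ≅ cokernel π :=
    (cokernelEpiComp (Abelian.factorThruImage π) (Abelian.image.ι π)).symm ≪≫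
      cokernelIsoOfEq (Abelian.image.fac π)
  have hI := CohBasics.Closure.isCoh_image π c₂.1 c₃
  have hC := CohBasics.Closure.isCoh_cokernel π c₂.1 c₃
  have e1 := hadd.add (Devissage.Basic.exists_ses_epi (Abelian.factorThruImage π))
    (CohBasics.Closure.isCoh_of_iso (kI ≪≫ eK).symm c₁) c₂ hI
  have e2 := hadd.add (Devissage.Basic.exists_ses_mono (Abelian.image.ι π)) hI c₃
    (CohBasics.Closure.isCoh_of_iso cI.symm hC)
  dsimp only at e1 e2
  rw [hadd.iso (kI ≪≫ eK)] at e1
  rw [hadd.iso cI] at e2
  have h0 : sym k X d l (cokernel π) = 0 := by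
    refine Additive.vanishBelow_sym hfin hd hl rfl _ hC ?_
    have := hC.2
    refine dim_lt_of_pdim_lt pX (Modules.Support.isClosed_support _) fun x hx => hbad x fun hf => hx ?_
    have : Epi S.g := hS.epi_g
    have hsur := Cyc.PP.Epi.surjective_push_stalk g S.g h₂.1 h₃.1 x (hf.subset fun w hw =>
      ⟨hw.1, h₂.2 (not_subsingleton_iff_nontrivial.2 hw.2)⟩)
    refine subsingleton_of_forall_eq 0 fun v => ?_
    obtain ⟨w, rfl⟩ := (Modules.StalkModule.epi_iff_stalkMapₗ_surjective (cokernel.π π)).mp inferInstance x v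
    obtain ⟨w, rfl⟩ := hsur w
    rw [← LinearMap.comp_apply, ← Modules.StalkModule.stalkMapₗ_comp, cokernel.condition,
      Modules.StalkModule.stalkMapₗ_zero]
    rfl
  rw [h0, add_zero] at e2
  rw [e1, ← e2]

omit hg in
/-- The support of a direct image. -/
theorem support_push_subset {K : X'.Modules} {S : Set X} (hS : IsClosed S)
    (h : ∀ w ∈ CohB1.support K, g w ∈ S) : CohB1.support ((Coh.push g).obj K) ⊆ S := fun x hx => by
  by_contra hxS
  exact hx (Cyc.SheafLen.subsingleton_push_stalk g K S hS
    (fun w hw => h w (not_subsingleton_iff_nontrivial.2 hw)) x hxS)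

omit hg in
/-- A twist by a pullback is trivial over a trivialising open. -/
theorem nonempty_twist_iso {M : X.Modules} {W : X.Opens}
    (e : M.restrict W.ι ≅ Coh.structureModule (W : Scheme.{u})) (A : X'.Modules) :
    Nonempty ((CohB1.tensorMod ((pb g).obj M) A).restrict (g ⁻¹ᵁ W).ι ≅ A.restrict (g ⁻¹ᵁ W).ι) := by
  let U := g ⁻¹ᵁ W
  let eW : (pb W.ι).obj M ≅ Coh.structureModule (W : Scheme.{u}) :=
    ((Scheme.Modules.restrictFunctorIsoPullback W.ι).app M).symm ≪≫ e
  let eP : ((pb g).obj M).restrict U.ι ≅ Coh.structureModule (U : Scheme.{u}) :=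
    (Scheme.Modules.restrictFunctorIsoPullback U.ι).app _ ≪≫
      (Scheme.Modules.pullbackComp U.ι g).app M ≪≫
      (Scheme.Modules.pullbackCongr (morphismRestrict_ι g W).symm).app M ≪≫
      ((Scheme.Modules.pullbackComp (g ∣_ W) W.ι).app M).symm ≪≫
      (pb (g ∣_ W)).mapIso eW ≪≫ PicLoc.pullbackStructureIso (g ∣_ W)
  exact ⟨TensorMod.Pullback.restrictTensorIso U.ι _ A ≪≫ tensorIso eP (Iso.refl _) ≪≫ leftUnit _⟩

/-- **Projection formula for intersection symbols.** -/
theorem sym_push {d d' : ℕ} (hd : topologicalKrullDim X ≤ d) (hd' : topologicalKrullDim X' ≤ d') :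
    ∀ (l : List X.Modules), (∀ M ∈ l, PicF.IsInvertible M) → ∀ F : X'.Modules, Coh.IsCoh F →
      topologicalKrullDim (CohB1.support F) ≤ l.length →
      sym k X' d' (l.map (pb g).obj) F = sym k X d l ((Coh.push g).obj F) := by
  intro l
  induction hn : l.length generalizing l with
  | zero =>
    intro hl F hF hr
    obtain rfl := List.length_eq_zero_iff.1 hn
    have := hF.2
    have hT := Modules.Support.isClosed_support F
    have hp0 : ∀ w ∈ CohB1.support F, VarDim.Basic.pdim pX' w = 0 := fun w hw => by
      have h := (VarDim.Basic.pdim_le_topologicalKrullDim pX' hT.isLocallyClosed hw).trans hr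
      exact Nat.le_zero.1 (by exact_mod_cast h)
    have hbad : ∀ x : X, ¬ {w | g w = x ∧ w ∈ CohB1.support F}.Finite →
        VarDim.Basic.pdim pX x < ([] : List X.Modules).length := fun x hx => by
      obtain ⟨w, hw, -, hlt⟩ := exists_pdim_lt g hg hT hx
      have := hp0 w hw
      omega
    have hadd' := isAdd' g (k := k) hd' hl
    refine ProperFin.Devissage.devissage
      (fun G => sym k X' d' [] G = sym k X d [] ((Coh.push g).obj G)) ⟨_, hT⟩
      ⟨fun G hG => ?_, fun S hS h₁ h₂ h₃ => ?_⟩ ?_ F ⟨hF, subset_rfl⟩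
    · rw [Vanish.sym_isZero [] (by simp) hG,
        Vanish.sym_isZero [] (by simp) ((Coh.push g).map_isZero hG)]
    · have e := hadd'.add hS h₁.1 h₂.1 h₃.1
      have e' := add_push g hg hd hl hbad S hS h₁ h₂ h₃
      simp only [List.map_nil] at e
      exact ⟨fun a b => by omega, fun a b => by omega, fun a b => by omega⟩
    · intro y hy
      refine ⟨Cyc.closureStructureSheaf y, Devissage.Closure.cohIn_closureStructureSheaf y,
        Devissage.Closure.length_closureStructureSheaf y, ?_⟩
      let I := IntMult.ptIdeal y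
      let i := I.subschemeι
      let _ := SurfInt.Surface.overSub (k := k) I
      have hfinI : ((I.support : Set X')).Finite := by
        rw [show (I.support : Set X') = closure {y} from rfl,
          ((VarDim.Basic.pdim_eq_zero_iff pX' y).1 (hp0 y hy)).closure_eq]
        exact Set.finite_singleton y
      have : Finite I.subscheme := by
        have := (I.range_subschemeι ▸ hfinI : (Set.range i).Finite).to_subtype
        exact Finite.of_injective (Set.rangeFactorization i)
          fun a b h => i.isClosedEmbedding.injective (congrArg Subtype.val h :)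
      have := Curves.isIntegral_ptIdeal y
      have : IsLocallyNoetherian I.subscheme := LocallyOfFiniteType.isLocallyNoetherian i
      have : JacobsonSpace I.subscheme := LocallyOfFiniteType.jacobsonSpace (i ≫ pX')
      have : DiscreteTopology I.subscheme := inferInstance
      have : IsAffine I.subscheme := inferInstance
      have : IsAffineHom ((i ≫ g) ≫ pX) := inferInstance
      have : IsAffineHom (i ≫ g) := IsAffineHom.of_comp (i ≫ g) pX
      have := TensorMod.QCohInv.isQCoh_structureModule I.subscheme
      have hX : (i ≫ g) ≫ pX = I.subscheme ↘ Spec (CommRingCat.of k) := by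
        rw [Category.assoc, hg]; rfl
      change FGA.eulerCharLE k X' (Cyc.closureStructureSheaf y) d' =
        FGA.eulerCharLE k X ((Coh.push g).obj (Cyc.closureStructureSheaf y)) d
      rw [← Chi.euler_eq_eulerCharLE hd', ← Chi.euler_eq_eulerCharLE hd,
        show Cyc.closureStructureSheaf y = (Coh.push i).obj (Coh.structureModule I.subscheme) from rfl,
        SurfInt.Push.euler_push i rfl, ← SurfInt.Push.euler_push (i ≫ g) hX]
      exact Lib.Curves.Euler.euler_eq_of_iso
        ((Scheme.Modules.pushforwardComp i g).app (Coh.structureModule I.subscheme)).symm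
  | succ n IH =>
    intro hL F hF hr
    obtain ⟨M, l, rfl⟩ := List.exists_cons_of_ne_nil (l := l) (by rintro rfl; simp at hn)
    simp only [List.length_cons, add_left_inj] at hn
    subst hn
    have hM := hL M List.mem_cons_self
    have hl : ∀ N ∈ l, PicF.IsInvertible N := fun N hN => hL N (List.mem_cons_of_mem _ hN)
    have hfin := Finite.cohFinite k X
    have hE : Modules.DualBasis.HasDBases M := Modules.DualBasis.hasDBases_of_isFinLocFree
      (TensorMod.LocFree.of_rank (TensorMod.LocFree.of_isInvertible hM))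
    have := hF.2
    have hT := Modules.Support.isClosed_support F
    have hp : ∀ w ∈ CohB1.support F, VarDim.Basic.pdim pX' w ≤ l.length + 1 := fun w hw => by
      have h := (VarDim.Basic.pdim_le_topologicalKrullDim pX' hT.isLocallyClosed hw).trans hr
      exact_mod_cast h
    have hadd' := isAdd' g (k := k) hd' hL
    refine ProperFin.Devissage.devissage
      (fun G => sym k X' d' ((M :: l).map (pb g).obj) G = sym k X d (M :: l) ((Coh.push g).obj G))
      ⟨_, hT⟩ ⟨fun G hG => ?_, fun S hS h₁ h₂ h₃ => ?_⟩ ?_ F ⟨hF, subset_rfl⟩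
    · rw [hadd'.zero hG, Vanish.sym_isZero _ hL ((Coh.push g).map_isZero hG)]
    · have e := hadd'.add hS h₁.1 h₂.1 h₃.1
      have e' := add_push g hg hd hL (fun x hx => by
        obtain ⟨w, hw, -, hlt⟩ := exists_pdim_lt g hg hT hx
        have := hp w hw
        rw [List.length_cons]; omega) S hS h₁ h₂ h₃
      exact ⟨fun a b => by omega, fun a b => by omega, fun a b => by omega⟩
    intro y hy
    refine ⟨Cyc.closureStructureSheaf y, Devissage.Closure.cohIn_closureStructureSheaf y,
      Devissage.Closure.length_closureStructureSheaf y, ?_⟩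
    obtain ⟨W, hxW, ⟨eW⟩⟩ := hM (g y)
    let U := g ⁻¹ᵁ W
    let A := Cyc.closureStructureSheaf y
    let B := CohB1.tensorMod ((pb g).obj M) A
    have hA : CohIn (closure {y}) A := Devissage.Closure.cohIn_closureStructureSheaf y
    have hPM := PicLoc.isInvertible_pullback g hM
    have hB : CohIn (closure {y}) B :=
      ⟨Twist.isCoh_twist hPM hA.1, (Twist.support_twist hPM A).subset.trans hA.2⟩
    obtain ⟨eU⟩ := nonempty_twist_iso g eW A
    have hne : ∀ w ∈ closure ({y} : Set X') ∩ (U : Set X')ᶜ, g w ≠ g y ∧ w ≠ y := fun w hw =>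
      ⟨fun e => hw.2 (show g w ∈ W from e ▸ hxW), fun e => hw.2 (e ▸ (show g y ∈ W from hxW))⟩
    have hK : ∀ K, CohIn (closure ({y} : Set X') ∩ (U : Set X')ᶜ) K →
        sym k X' d' (l.map (pb g).obj) K = sym k X d l ((Coh.push g).obj K) := fun K hK => by
      refine IH l rfl hl K hK.1 ?_
      have := hK.1.2
      refine (VarDim.Basic.topologicalKrullDim_le_iff pX'
        (Modules.Support.isClosed_support K).isLocallyClosed _).2 fun w hw => ?_
      have h1 := pdim_closure_lt pX' (hK.2 hw).1 (hne w (hK.2 hw)).2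
      have h2 := hp y hy
      exact_mod_cast (by omega : VarDim.Basic.pdim pX' w ≤ l.length)
    have hgM : CohB1.tensorMod M ((Coh.push g).obj A) ≅ (Coh.push g).obj B :=
      (Modules.ProjFormula.projIso g hE).app A
    rw [List.map_cons, sym_cons, sym_cons, sym_of_iso l hgM]
    have hxy : VarDim.Basic.pdim pX (g y) ≤ VarDim.Basic.pdim pX' y :=
      VarDim.Fibre.pdim_apply_le pX' pX g hg y
    have hy' := hp y hy
    have := isProper g hg
    rcases Nat.lt_or_ge (VarDim.Basic.pdim pX (g y)) (l.length + 1) with hlt | hge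
    · -- the image has smaller dimension
      have hclA : ∀ w ∈ closure ({y} : Set X'), g w ∈ closure ({g y} : Set X) := fun w hw =>
        specializes_iff_mem_closure.1 ((specializes_iff_mem_closure.2 hw).map g.continuous)
      have hr0 : sym k X d (M :: l) ((Coh.push g).obj A) = 0 := by
        refine Additive.vanishBelow_sym hfin hd hL List.length_cons _ (Cyc.PP.Push.isCoh_push g hA.1)
          (lt_of_le_of_lt (Devissage.Dim.dim_mono
            (support_push_subset g isClosed_closure fun w hw => hclA w (hA.2 hw)))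
            (dim_lt_of_pdim_lt pX isClosed_closure fun x hx => ?_))
        have := pdim_closure_le pX hx
        omega
      rw [sym_cons, sym_of_iso l hgM, sub_eq_zero] at hr0
      rw [hr0, sub_self, sub_eq_zero]
      have hadd₀ := isAdd' g (k := k) hd' hl
      refine Roof.eq_of_iso_on (φ := sym k X' d' (l.map (pb g).obj))
        (fun S hS h₁ h₂ h₃ => hadd₀.add hS h₁.1 h₂.1 h₃.1) (fun e => hadd₀.iso e)
        hA hB U eU.symm fun K hK' => ?_
      rw [hK K hK']
      have := (Cyc.PP.Push.isCoh_push g hK'.1).2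
      refine Additive.vanishBelow_sym hfin hd hl rfl _ (Cyc.PP.Push.isCoh_push g hK'.1)
        (dim_lt_of_pdim_lt pX (Modules.Support.isClosed_support _) fun x hx => ?_)
      have := hK'.1.2
      have hxK : x ∈ g '' CohB1.support K :=
        support_push_subset g (g.isClosedMap _ (Modules.Support.isClosed_support K))
          (fun w hw => ⟨w, hw, rfl⟩) hx
      obtain ⟨w, hw, rfl⟩ := hxK
      have := pdim_closure_lt pX (hclA w (hK'.2 hw).1) (hne w (hK'.2 hw)).1
      omega
    · -- generically finite
      have hbad : ∀ x : X, ¬ {w | g w = x ∧ w ∈ closure ({y} : Set X')}.Finite →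
          VarDim.Basic.pdim pX x < l.length := fun x hx => by
        obtain ⟨w, hw, hwx, hlt⟩ := exists_pdim_lt g hg isClosed_closure hx
        have hwy : w ≠ y := by rintro rfl; subst hwx; omega
        have := pdim_closure_lt pX' hw hwy
        omega
      have hadd₀ := isAdd' g (k := k) hd' hl
      have h := Roof.eq_of_iso_on
        (φ := fun G => sym k X' d' (l.map (pb g).obj) G - sym k X d l ((Coh.push g).obj G))
        (fun S hS h₁ h₂ h₃ => by
          rw [hadd₀.add hS h₁.1 h₂.1 h₃.1, add_push g hg hd hl hbad S hS h₁ h₂ h₃]; ring)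
        (fun e => by rw [hadd₀.iso e, sym_of_iso l ((Coh.push g).mapIso e)])
        hA hB U eU.symm fun K hK' => sub_eq_zero.2 (hK K hK')
      linarith

end Groth.Agent.Lib.IntTheory.Push
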