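import Groth.Agent.Lib.Exchange.Proper
import Groth.Agent.Lib.Exchange.Fibre
import Groth.Agent.Lib.FlatCx.DRank
import Groth.Agent.Lib.FlatCx.Fkr
import Groth.Agent.Lib.Flat55.FlatOverAt
import Groth.Agent.Lib.Cyc.FP.Stalk
import Groth.Agent.Lib.Curves.Euler
import Groth.Prelude.Def_CurvBase

/-!
# The Euler characteristic of the fibres of a flat family is locally constant
-/

set_option autoImplicit false
set_option linter.style.haveILetI false
universe u

open CategoryTheory CategoryTheory.Limits AlgebraicGeometry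
open Groth.Agent.Lib.FlatCx.Basic Groth.Agent.Lib.FlatCx.Rank Groth.Agent.Lib.FlatCx.BaseChange
  Groth.Agent.Lib.FlatCx.HKer

namespace Groth.Agent.Lib.IntTheory.ChiConst

open Groth.Agent.Lib

section Complex

variable {A : Type u} [CommRing A] [IsNoetherianRing A] (P : ChainComplex (ModuleCat.{u} A) ℤ)
  (hP : ∀ i, Module.Finite A (P.X i) ∧ Module.Flat A (P.X i))

/-- The alternating sum of the fibre dimensions in degrees `0, -1, …, -(n-1)`. -/
noncomputable def S (n : ℕ) (x : PrimeSpectrum A) : ℤ :=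
  ∑ j ∈ Finset.range n, (-1 : ℤ) ^ j * (CohIII.dRank P (-(j : ℤ)) x : ℤ)

include hP

/-- The truncated alternating sum is locally constant up to one rank. -/
theorem isLocallyConstant_S (h1 : ∀ i : ℤ, 0 < i → ∀ M, IsZero (CohIII.T P i M)) (n : ℕ) :
    IsLocallyConstant fun x => S P n x - (-1 : ℤ) ^ n *
      ((fdim (P.X (-(n : ℤ))) x : ℤ) - fdim (Q P (-(n : ℤ))) x) := by
  have hX : ∀ i, IsLocallyConstant fun x => (fdim (P.X i) x : ℤ) := fun i =>
    (FlatCx.DRank.isLocallyConstant_X P hP i).comp fun n : ℕ => (n : ℤ)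
  induction n with
  | zero =>
    have hz : ∀ M, IsZero ((CohIII.TFun P 1).obj M) := fun M => h1 1 one_pos M
    have hex : (CohIII.TFun P 1).PreservesMonomorphisms ∧ (CohIII.TFun P 1).PreservesEpimorphisms :=
      ⟨⟨fun {M N} g _ => ⟨fun a b _ => (hz M).eq_of_tgt a b⟩⟩,
        ⟨fun {M N} g _ => ⟨fun a b _ => (hz N).eq_of_src a b⟩⟩⟩
    have hfl : Module.Flat A (Q P (-((0 : ℕ) : ℤ))) :=
      ((FlatCx.DRank.exact_iff_flat P hP 1).1 hex).2
    have := FlatCx.DRank.finitePresentation_Q P hP (-((0 : ℕ) : ℤ))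
    have hQ : IsLocallyConstant fun x => (fdim (Q P (-((0 : ℕ) : ℤ))) x : ℤ) :=
      (isLocallyConstant_fdim (A := A) _).comp fun n : ℕ => (n : ℤ)
    simpa [S, Pi.sub_def, Pi.neg_def] using ((hX (-((0 : ℕ) : ℤ))).sub hQ).neg
  | succ n ih =>
    refine (funext fun x => ?_ : (fun x => _) = fun x => (S P n x - (-1 : ℤ) ^ n *
      ((fdim (P.X (-(n : ℤ))) x : ℤ) - fdim (Q P (-(n : ℤ))) x)) +
        (-1 : ℤ) ^ n * (fdim (P.X (-(n : ℤ))) x : ℤ)) ▸
      ih.add ((hX (-(n : ℤ))).comp fun z => (-1 : ℤ) ^ n * z)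
    have := (hP (-(n : ℤ))).1
    have := (hP (-((n + 1 : ℕ) : ℤ))).1
    have e := FlatCx.DRank.dRank_add P (-(n : ℤ)) (-((n + 1 : ℕ) : ℤ)) (by push_cast; omega) x
    have he : (CohIII.dRank P (-(n : ℤ)) x : ℤ) = (fdim (Q P (-(n : ℤ))) x : ℤ) +
        fdim (Q P (-((n + 1 : ℕ) : ℤ))) x - fdim (P.X (-((n + 1 : ℕ) : ℤ))) x := by
      rw [eq_sub_iff_add_eq]; exact_mod_cast e
    simp only [S, Finset.sum_range_succ, he, pow_succ]
    ring

omit [IsNoetherianRing A] hP in
theorem dRank_eq_zero {i : ℤ} (h : IsZero (P.X i)) (x : PrimeSpectrum A) :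
    CohIII.dRank P i x = 0 := by
  let K := x.asIdeal.ResidueField
  have := ModuleCat.isZero_iff_subsingleton.1 h
  have hz : IsZero ((bc P K).X i) :=
    ModuleCat.isZero_iff_subsingleton.2 (Xequiv P K i).injective.subsingleton
  haveI : Subsingleton ((bc P K).homology i) := ModuleCat.isZero_iff_subsingleton.1
    (ShortComplex.isZero_homology_of_isZero_X₂ ((bc P K).sc i) hz)
  show Module.finrank K ((bc P K).homology i) = 0
  exact Module.finrank_zero_of_subsingleton

omit [IsNoetherianRing A] hP in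
/-- Fibre dimensions computed in any field over the residue field. -/
theorem finrank_homology_field (i : ℤ) (L : Type u) [Field L] [Algebra A L] :
    Module.finrank L ((bc P L).homology i) =
      CohIII.dRank P i ⟨RingHom.ker (algebraMap A L), RingHom.ker_isPrime _⟩ := by
  let x : PrimeSpectrum A := ⟨RingHom.ker (algebraMap A L), RingHom.ker_isPrime _⟩
  haveI : x.asIdeal.IsPrime := x.isPrime
  let φ : x.asIdeal.ResidueField →+* L :=
    Ideal.ResidueField.lift x.asIdeal (algebraMap A L) le_rfl fun a ha =>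
      (Ne.isUnit fun h => ha h)
  let : Algebra x.asIdeal.ResidueField L := φ.toAlgebra
  have : IsScalarTower A x.asIdeal.ResidueField L := .of_algebraMap_eq fun a =>
    (Ideal.ResidueField.lift_algebraMap x.asIdeal _ le_rfl _ a).symm
  rw [(homologyKerEquiv (bc P L) (show (i - 1) + 1 = i by omega) ≪≫ₗ
    kerDbarEquiv P L i (i - 1)).finrank_eq,
    FlatCx.Fkr.dRank_eq_fkr P i (i - 1) (by omega)]
  exact FlatCx.Fkr.fkr_field _ x.asIdeal.ResidueField L

end Complex

variable (A : Type u) [CommRing A] [IsNoetherianRing A] {X : Scheme.{u}}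
  [X.Over (Spec (CommRingCat.of A))] [IsProper (X ↘ Spec (CommRingCat.of A))] (F : X.Modules)

/-- The Euler characteristic over field-valued points is given by a locally constant function. -/
theorem exists_euler (hF : Coh.IsCoh F)
    (hfl : FlatMod.IsFlatOver (X ↘ Spec (CommRingCat.of A)) F) :
    ∃ e : PrimeSpectrum A → ℤ, IsLocallyConstant e ∧
      ∀ (L : Type u) [Field L] [Algebra A L] (X' : Scheme.{u}) [X'.Over (Spec (CommRingCat.of L))]
        (g' : X' ⟶ X),
        IsPullback g' (X' ↘ Spec (CommRingCat.of L)) (X ↘ Spec (CommRingCat.of A))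
          (Spec.map (CommRingCat.ofHom (algebraMap A L))) →
        Curv2.euler L X' ((Scheme.Modules.pullback g').obj F) =
          e ⟨RingHom.ker (algebraMap A L), RingHom.ker_isPrime _⟩ := by
  obtain ⟨b, P, hb, hfin, hfree, hpos, hiso⟩ := _root_.ZarCoh.Exchange.Proper.exists_rep A F hF hfl
  haveI := hfree
  haveI : F.IsQuasicoherent := hF.1
  have hP : ∀ i, Module.Finite A (P.X i) ∧ Module.Flat A (P.X i) := fun i => ⟨hfin i, inferInstance⟩
  obtain ⟨N, hN⟩ : ∃ N : ℕ, -(N : ℤ) < b := ⟨(1 - b).toNat, by omega⟩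
  refine ⟨S P N, ?_, fun L _ _ X' _ g' hsq => ?_⟩
  · have hz := hb _ hN
    have := ModuleCat.isZero_iff_subsingleton.1 hz
    have h1 : ∀ x : PrimeSpectrum A, fdim (P.X (-(N : ℤ))) x = 0 := fun x =>
      Module.finrank_zero_of_subsingleton
    have : Subsingleton (Q P (-(N : ℤ))) := (Submodule.mkQ_surjective _).subsingleton
    have h2 : ∀ x : PrimeSpectrum A, fdim (Q P (-(N : ℤ))) x = 0 := fun x =>
      Module.finrank_zero_of_subsingleton
    simpa [h1, h2] using isLocallyConstant_S P hP hpos N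
  · have key : ∀ p : ℕ, Module.finrank L (Coh.HH X' ((Scheme.Modules.pullback g').obj F) p) =
        CohIII.dRank P (-(p : ℤ)) ⟨RingHom.ker (algebraMap A L), RingHom.ker_isPrime _⟩ := by
      intro p
      obtain ⟨ep⟩ := hiso p
      obtain ⟨E⟩ := _root_.ZarCoh.Exchange.Fibre.nonempty_linearEquiv (A' := L) hsq F ep
      rw [E.finrank_eq]
      exact finrank_homology_field P _ L
    unfold Curv2.euler S
    rw [finsum_eq_sum_of_support_subset _ (s := Finset.range N)]
    · exact Finset.sum_congr rfl fun p _ => by rw [key]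
    · intro p hp
      simp only [Finset.coe_range, Set.mem_Iio]
      by_contra h
      apply hp
      show (-1 : ℤ) ^ p * _ = 0
      rw [key, dRank_eq_zero P (hb _ (by omega))]
      simp

section Global

variable {X S : Scheme.{u}} (f : X ⟶ S) [IsProper f] [IsLocallyNoetherian S] (F : X.Modules)

/-- The same over an arbitrary locally noetherian base. -/
theorem exists_euler_scheme (hF : Coh.IsCoh F) (hfl : FlatMod.IsFlatOver f F) :
    ∃ e : S → ℤ, IsLocallyConstant e ∧
      ∀ (L : Type u) [Field L] (X' : Scheme.{u}) (q : X' ⟶ Spec (CommRingCat.of L))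
        (σ : Spec (CommRingCat.of L) ⟶ S) (g' : X' ⟶ X), IsPullback g' q f σ →
        @Curv2.euler L _ X' ⟨q⟩ ((Scheme.Modules.pullback g').obj F) =
          e (σ (IsLocalRing.closedPoint L)) := by
  let e : S → ℤ := fun s =>
    @Curv2.euler (S.residueField s) _ (f.fiber s) ⟨f.fiberToSpecResidueField s⟩
      ((Scheme.Modules.pullback (f.fiberι s)).obj F)
  have key : ∀ s₀ : S, ∃ (V : S.Opens) (eV : ↥V → ℤ), s₀ ∈ V ∧ IsLocallyConstant eV ∧
      ∀ (L : Type u) [Field L] (X' : Scheme.{u}) (q : X' ⟶ Spec (CommRingCat.of L))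
        (σ : Spec (CommRingCat.of L) ⟶ S) (g' : X' ⟶ X), IsPullback g' q f σ →
        ∀ h : σ (IsLocalRing.closedPoint L) ∈ V,
        @Curv2.euler L _ X' ⟨q⟩ ((Scheme.Modules.pullback g').obj F) =
          eV ⟨σ (IsLocalRing.closedPoint L), h⟩ := by
    intro s₀
    obtain ⟨V, hV, hs₀, -⟩ := exists_isAffineOpen_mem_and_subset (show s₀ ∈ (⊤ : S.Opens) from trivial)
    let φ := hV.fromSpec
    haveI : IsOpenImmersion φ := hV.isOpenImmersion_fromSpec
    let A := Γ(S, V)
    haveI : IsNoetherianRing A := IsLocallyNoetherian.component_noetherian ⟨V, hV⟩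
    letI : (pullback f φ).Over (Spec (CommRingCat.of A)) := ⟨pullback.snd f φ⟩
    haveI : IsProper (pullback f φ ↘ Spec (CommRingCat.of A)) :=
      inferInstanceAs (IsProper (pullback.snd f φ))
    obtain ⟨eA, heA, hform⟩ := exists_euler A ((Scheme.Modules.pullback (pullback.fst f φ)).obj F)
      (Cyc.FP.Stalk.isCoh_pullback _ hF)
      (fun x => Flat55.FlatOverAt.isFlatOverAt_baseChange f (pullback.snd f φ) (pullback.fst f φ) φ
        (IsPullback.of_hasPullback f φ) F x (hfl _))
    refine ⟨V, eA ∘ hV.isoSpec.hom, hs₀, heA.comp_continuous hV.isoSpec.hom.continuous, ?_⟩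
    intro L _ X' q σ g' hsq h
    have hr : Set.range σ ⊆ Set.range φ := by
      rw [hV.range_fromSpec]
      rintro _ ⟨z, rfl⟩
      rwa [Subsingleton.elim (α := PrimeSpectrum L) z (IsLocalRing.closedPoint L)]
    let σ' := IsOpenImmersion.lift φ σ hr
    have hσ' : σ' ≫ φ = σ := IsOpenImmersion.lift_fac φ σ hr
    let ψ : A ⟶ CommRingCat.of L := Spec.preimage σ'
    have hψ : Spec.map ψ = σ' := Spec.map_preimage σ'
    letI : Algebra A L := ψ.hom.toAlgebra
    letI : X'.Over (Spec (CommRingCat.of L)) := ⟨q⟩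
    let g'' : X' ⟶ pullback f φ := pullback.lift g' (q ≫ σ') (by rw [Category.assoc, hσ', hsq.w])
    have hsq' : IsPullback g'' q (pullback.snd f φ) (Spec.map (CommRingCat.ofHom (algebraMap A L))) := by
      rw [show Spec.map (CommRingCat.ofHom (algebraMap A L)) = σ' from hψ]
      refine IsPullback.of_right ?_ (pullback.lift_snd _ _ _) (IsPullback.of_hasPullback f φ)
      rw [pullback.lift_fst, hσ']
      exact hsq
    have h1 := (Curves.Euler.euler_eq_of_iso (k := L)
      ((Scheme.Modules.pullbackComp g'' (pullback.fst f φ)).app F ≪≫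
        (Scheme.Modules.pullbackCongr (pullback.lift_fst _ _ _)).app F)).symm.trans
      (hform L X' g'' hsq')
    rw [h1]
    refine congrArg eA ?_
    apply φ.isOpenEmbedding.injective
    have h2 : φ (hV.isoSpec.hom ⟨σ (IsLocalRing.closedPoint L), h⟩) = σ (IsLocalRing.closedPoint L) := by
      erw [← Scheme.Hom.comp_apply, hV.isoSpec_hom, IsAffineOpen.toSpecΓ_fromSpec]
      rfl
    refine Eq.trans ?_ h2.symm
    refine Eq.trans ?_ (congrArg (fun m : Spec (CommRingCat.of L) ⟶ S => m (IsLocalRing.closedPoint L)) hσ')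
    refine congrArg φ (PrimeSpectrum.ext ?_)
    rw [← hψ]
    show RingHom.ker ψ.hom = Ideal.comap ψ.hom (IsLocalRing.maximalIdeal L)
    rw [IsLocalRing.maximalIdeal_eq_bot, RingHom.ker_eq_comap_bot]
  refine ⟨e, (IsLocallyConstant.iff_exists_open e).2 fun s₀ => ?_, fun L _ X' q σ g' hsq => ?_⟩
  · obtain ⟨V, eV, hs₀, hc, hV⟩ := key s₀
    obtain ⟨U, hU, hmem, hconst⟩ := (IsLocallyConstant.iff_exists_open eV).1 hc ⟨s₀, hs₀⟩
    refine ⟨V.ι '' U, V.ι.isOpenEmbedding.isOpenMap _ hU, ⟨_, hmem, rfl⟩, ?_⟩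
    have he : ∀ t : ↥V, e (t : S) = eV t := fun t =>
      (hV _ _ _ (S.fromSpecResidueField t.1) (f.fiberι t.1)
        (IsPullback.of_hasPullback f (S.fromSpecResidueField t.1))
        (Set.mem_of_eq_of_mem (Scheme.fromSpecResidueField_apply _ _) t.2)).trans
        (congrArg eV (Subtype.ext (Scheme.fromSpecResidueField_apply _ _)))
    rintro _ ⟨t, ht, rfl⟩
    exact ((he t).trans (hconst t ht)).trans (he ⟨s₀, hs₀⟩).symm
  · obtain ⟨V, eV, hs₀, -, hV⟩ := key (σ (IsLocalRing.closedPoint L))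
    refine (hV L X' q σ g' hsq hs₀).trans ?_
    exact ((hV _ _ _ (S.fromSpecResidueField _) (f.fiberι _)
        (IsPullback.of_hasPullback f (S.fromSpecResidueField _))
        (Set.mem_of_eq_of_mem (Scheme.fromSpecResidueField_apply _ _) hs₀)).trans
        (congrArg eV (Subtype.ext (Scheme.fromSpecResidueField_apply _ _)))).symm

end Global

end Groth.Agent.Lib.IntTheory.ChiConst
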