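import Groth.Agent.Lib.IntTheory.Push
import Groth.Agent.Lib.Snapper.DimBound
import Groth.Agent.Lib.Curves.GlobalSections

/-!
# Numerical equivalence along morphisms
-/

set_option autoImplicit false
set_option linter.unusedSectionVars false
universe u

open CategoryTheory CategoryTheory.Limits AlgebraicGeometry TopologicalSpace

namespace Groth.Agent.Lib.IntTheory.NumEq

open Groth.Agent.Lib Groth.Agent.Lib.Snapper Groth.Agent.Lib.Cyc
open Groth.Agent.Lib.Devissage.Basic (CohIn)
open Groth.Agent.Lib.Snapper.Vanish (sym sym_cons sym_of_iso)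
open Groth.Agent.Lib.TensorMod.Pullback (pb)
open Groth.Agent.Lib.TensorMod.Basic (rightUnit)

variable {k : Type u} [Field k] {X : Scheme.{u}} [X.Over (Spec (CommRingCat.of k))]
  [IsProper (X ↘ Spec (CommRingCat.of k))] [IsNoetherian X] {d : ℕ}
  (hd : topologicalKrullDim X ≤ d)

include hd

/-- The degree of a pullback to a proper curve is minus a symbol on the target. -/
theorem curveDeg_eq {Y : Scheme.{u}} (f : Y ⟶ X) [IsProper (f ≫ (X ↘ Spec (CommRingCat.of k)))]
    (hY : topologicalKrullDim Y ≤ (1 : ℕ)) {L : X.Modules} (hL : PicF.IsInvertible L) :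
    Pic13.curveDeg k (f ≫ (X ↘ Spec (CommRingCat.of k))) ((Scheme.Modules.pullback f).obj L) =
      - sym k X d [L] ((Coh.push f).obj (Coh.structureModule Y)) := by
  let _ : Y.Over (Spec (CommRingCat.of k)) := ⟨f ≫ (X ↘ Spec (CommRingCat.of k))⟩
  have : IsProper (Y ↘ Spec (CommRingCat.of k)) := ‹_›
  have := Curves.GlobalSections.isNoetherian_of_proper k Y
  have h := Push.sym_push (k := k) f rfl hd hY [L] (by simpa using hL) _ (Twist.isCoh_structureModule Y)
    (Topology.IsInducing.subtypeVal.topologicalKrullDim_le.trans hY)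
  rw [← h]
  show _ = -(FGA.eulerCharLE k Y (Coh.structureModule Y) 1 -
    FGA.eulerCharLE k Y (CohB1.tensorMod ((pb f).obj L) (Coh.structureModule Y)) 1)
  rw [neg_sub, Chi.eulerCharLE_of_iso (rightUnit ((pb f).obj L))]
  rfl

/-- Equal degrees on curves give equal degrees along any morphism from a proper curve. -/
theorem curveDeg_congr {Y : Scheme.{u}} (f : Y ⟶ X) [IsProper (f ≫ (X ↘ Spec (CommRingCat.of k)))]
    (hY : topologicalKrullDim Y ≤ (1 : ℕ)) {L N : X.Modules} (hL : PicF.IsInvertible L)
    (hN : PicF.IsInvertible N) (h : Basic.CurveEq k d L N) :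
    Pic13.curveDeg k (f ≫ (X ↘ Spec (CommRingCat.of k))) ((Scheme.Modules.pullback f).obj L) =
      Pic13.curveDeg k (f ≫ (X ↘ Spec (CommRingCat.of k))) ((Scheme.Modules.pullback f).obj N) := by
  rw [curveDeg_eq hd f hY hL, curveDeg_eq hd f hY hN, neg_inj]
  let _ : Y.Over (Spec (CommRingCat.of k)) := ⟨f ≫ (X ↘ Spec (CommRingCat.of k))⟩
  have : IsProper (Y ↘ Spec (CommRingCat.of k)) := ‹_›
  have := Curves.GlobalSections.isNoetherian_of_proper k Y
  have := Push.isProper f (k := k) rfl
  have hcoh := Cyc.PP.Push.isCoh_push f (Twist.isCoh_structureModule Y)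
  have := hcoh.2
  refine Basic.sym_congr (Finite.cohFinite k X) hd 1 [L] [N] rfl (by simpa using hL) (by simpa using hN)
    (List.Forall₂.cons h List.Forall₂.nil) _ hcoh ?_
  refine (VarDim.Basic.topologicalKrullDim_le_iff (X ↘ Spec (CommRingCat.of k))
    (Modules.Support.isClosed_support _).isLocallyClosed _).2 fun x hx => ?_
  have hx' : x ∈ Set.range f :=
    Push.support_push_subset f f.isClosedMap.isClosed_range (fun w _ => ⟨w, rfl⟩) hx
  obtain ⟨w, rfl⟩ := hx'
  refine le_trans ?_ ((VarDim.Basic.pdim_le_topologicalKrullDim_scheme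
    (f ≫ (X ↘ Spec (CommRingCat.of k))) w).trans hY)
  exact_mod_cast VarDim.Fibre.pdim_apply_le _ _ f rfl w

omit hd
variable {X' : Scheme.{u}} [X'.Over (Spec (CommRingCat.of k))]
  [IsProper (X' ↘ Spec (CommRingCat.of k))] [IsNoetherian X']
  (g : X' ⟶ X) (hg : g ≫ (X ↘ Spec (CommRingCat.of k)) = X' ↘ Spec (CommRingCat.of k))

include hd hg

/-- Degrees on curves descend along surjective morphisms. -/
theorem curveEq_of_pullback [Surjective g] {d' : ℕ} (hd' : topologicalKrullDim X' ≤ d')
    {L N : X.Modules} (hL : PicF.IsInvertible L) (hN : PicF.IsInvertible N)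
    (h : Basic.CurveEq k d' ((pb g).obj L) ((pb g).obj N)) : Basic.CurveEq k d L N := by
  intro y hy
  let pX := X ↘ Spec (CommRingCat.of k)
  let pX' := X' ↘ Spec (CommRingCat.of k)
  have := Push.isProper g (k := k) hg
  have hpy : VarDim.Basic.pdim pX y = 1 := by
    have h := VarDim.Basic.topologicalKrullDim_isGenericPoint pX
      (show IsGenericPoint y (closure ({y} : Set X)) from rfl)
    rw [hy] at h
    exact_mod_cast h.symm
  obtain ⟨w, rfl, hw⟩ : ∃ w, g w = y ∧ VarDim.Basic.tdAt g w = 0 := by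
    have : LocallyOfFiniteType (X := g.fiber y) (Y := Spec (CommRingCat.of (X.residueField y)))
        (g.fiberToSpecResidueField y) :=
      inferInstanceAs (LocallyOfFiniteType (Limits.pullback.snd g (X.fromSpecResidueField y)))
    have : JacobsonSpace (g.fiber y) :=
      LocallyOfFiniteType.jacobsonSpace (g.fiberToSpecResidueField y)
    obtain ⟨x, hx⟩ := g.surjective y
    obtain ⟨z, -⟩ := FieldDim.exists_fiberι_eq g x y hx
    obtain ⟨c, -, hc⟩ := nonempty_inter_closedPoints (Z := (Set.univ : Set (g.fiber y)))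
      ⟨z, trivial⟩ isOpen_univ.isLocallyClosed
    refine ⟨g.fiberι y c, FieldDim.apply_fiberι g y c, ?_⟩
    have hkey : VarDim.Basic.tdAt (g.fiberToSpecResidueField y) c = VarDim.Basic.tdAt g (g.fiberι y c) :=
      congrArg Cardinal.toNat (FieldDim.trdegAt_fiber g y c)
    rw [← hkey]
    exact (VarDim.Basic.pdim_eq_zero_iff (K := X.residueField y) (g.fiberToSpecResidueField y) c).2 hc
  have hpw : VarDim.Basic.pdim pX' w = 1 := by
    rw [VarDim.Fibre.pdim_eq_add pX' pX g hg w, hpy]
    omega
  have hclw : topologicalKrullDim (closure ({w} : Set X')) = 1 := by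
    rw [VarDim.Basic.topologicalKrullDim_isGenericPoint pX'
      (show IsGenericPoint w (closure ({w} : Set X')) from rfl), hpw]
    rfl
  have hfin := Finite.cohFinite k X
  have hA := Devissage.Closure.cohIn_closureStructureSheaf w
  have hP := Cyc.PP.Push.isCoh_push g hA.1
  have hsupp : CohB1.support ((Coh.push g).obj (Cyc.closureStructureSheaf w)) ⊆ closure {g w} :=
    Push.support_push_subset g isClosed_closure fun v hv =>
      specializes_iff_mem_closure.1 ((specializes_iff_mem_closure.2 (hA.2 hv)).map g.continuous)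
  have key : ∀ {P : X.Modules}, PicF.IsInvertible P →
      sym k X' d' [(pb g).obj P] (Cyc.closureStructureSheaf w) =
        (Module.length (X.presheaf.stalk (g w))
          (((Coh.push g).obj (Cyc.closureStructureSheaf w)).presheaf.stalk (g w))).toNat *
          sym k X d [P] (Cyc.closureStructureSheaf (g w)) := by
    intro P hP'
    have h1 := Push.sym_push g hg hd hd' [P] (by simpa using hP') _ hA.1
      ((Devissage.Dim.dim_mono hA.2).trans hclw.le)
    rw [List.map_cons, List.map_nil] at h1
    rw [h1]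
    exact Vanish.sym_eq_length_mul hfin hd [P] (by simpa using hP')
      (fun G hG hlt => Vanish.sym_eq_zero hfin hd [P] (by simpa using hP') G hG hlt) (g w) hy.le _
      ⟨hP, hsupp⟩
  have hm := h w hclw
  rw [key hL, key hN] at hm
  refine mul_left_cancel₀ (Int.natCast_ne_zero.2 fun h0 => ?_) hm
  rcases ENat.toNat_eq_zero.1 h0 with h0 | h0
  · -- the unit section does not vanish at the image
    rw [Module.length_eq_zero_iff] at h0
    obtain ⟨V, hV, iU, iV, he⟩ := TopCat.Presheaf.germ_eq
      ((Coh.push g).obj (Cyc.closureStructureSheaf w)).presheaf (g w)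
      (show g w ∈ (⊤ : X.Opens) from trivial) (show g w ∈ (⊤ : X.Opens) from trivial)
      (show Γ((IntMult.ptIdeal w).subscheme,
        (IntMult.ptIdeal w).subschemeι ⁻¹ᵁ g ⁻¹ᵁ ⊤) from 1) 0 (Subsingleton.elim _ _)
    obtain ⟨z, hz⟩ : w ∈ Set.range (IntMult.ptIdeal w).subschemeι := by
      rw [Devissage.Closure.range_ptIdeal w]; exact subset_closure rfl
    let O := (IntMult.ptIdeal w).subschemeι ⁻¹ᵁ g ⁻¹ᵁ V
    have : Nonempty O := ⟨⟨z, show g ((IntMult.ptIdeal w).subschemeι z) ∈ V by rw [hz]; exact hV⟩⟩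
    refine one_ne_zero (α := Γ((IntMult.ptIdeal w).subscheme, O)) ?_
    refine Eq.trans ?_ (he.trans (map_zero _))
    exact (map_one ((IntMult.ptIdeal w).subscheme.presheaf.map _).hom).symm
  · refine Cyc.SheafLen.length_ne_top hP (g w) (fun v hvy hv => ?_) h0
    exact (hvy.antisymm (specializes_iff_mem_closure.2
      (hsupp (not_subsingleton_iff_nontrivial.2 hv)))).eq

end Groth.Agent.Lib.IntTheory.NumEq
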