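import Groth.Agent.Lib.VarDim.Basic
import Mathlib.RingTheory.Ideal.KrullsHeightTheorem
import Mathlib.RingTheory.Ideal.MinimalPrime.Noetherian
import Mathlib.AlgebraicGeometry.FunctionField

/-!
# A curve meeting a proper closed subset without lying in it
-/

set_option autoImplicit false
universe u

open CategoryTheory AlgebraicGeometry TopologicalSpace IsLocalRing

namespace Groth.Agent.Lib.IntTheory.CurveThrough

/-- If every nonzero prime of a noetherian local domain contains `f ≠ 0`, the ring has at most one nonzero prime. -/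
theorem eq_maximal_of_forall_mem {B : Type*} [CommRing B] [IsDomain B] [IsLocalRing B] [IsNoetherianRing B]
    {f : B} (h : ∀ p : Ideal B, p.IsPrime → p ≠ ⊥ → f ∈ p) (hf : f ≠ 0) {p : Ideal B} (hp : p.IsPrime)
    (hp0 : p ≠ ⊥) : p = maximalIdeal B := by
  classical
  refine le_antisymm (le_maximalIdeal hp.ne_top) ?_
  by_cases hm : maximalIdeal B ∈ (Ideal.span {f}).minimalPrimes
  · exact hm.2 ⟨hp, (Ideal.span_singleton_le_iff_mem _).2 (h p hp hp0)⟩ (le_maximalIdeal hp.ne_top)
  · exfalso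
    have hfin := Ideal.finite_minimalPrimes_of_isNoetherianRing B (Ideal.span {f})
    have hfm : f ∈ maximalIdeal B := le_maximalIdeal hp.ne_top (h p hp hp0)
    have hnot : ¬ (maximalIdeal B : Set B) ⊆ ⋃ q ∈ (hfin.toFinset : Set (Ideal B)), (q : Set B) := by
      intro hsub
      rw [Ideal.subset_union_prime ⊥ ⊥ fun q hq _ _ => (hfin.mem_toFinset.1 hq).1.1] at hsub
      obtain ⟨q, hq, hle⟩ := hsub
      have hq' := hfin.mem_toFinset.1 hq
      exact hm (le_antisymm hle (le_maximalIdeal hq'.1.1.ne_top) ▸ hq')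
    obtain ⟨g, hg, hg'⟩ := Set.not_subset.1 hnot
    obtain ⟨q, hq⟩ := Ideal.nonempty_minimalPrimes (I := Ideal.span {g}) (by
      intro e
      exact (maximalIdeal.isMaximal B).ne_top (top_le_iff.1 (e ▸ (Ideal.span_singleton_le_iff_mem _).2 hg)))
    have hgq : g ∈ q := (Ideal.span_singleton_le_iff_mem _).1 hq.1.2
    have hq0 : q ≠ ⊥ := by
      rintro rfl
      obtain ⟨r, hr⟩ := Ideal.nonempty_minimalPrimes (I := Ideal.span {f}) (by
        intro e
        exact (maximalIdeal.isMaximal B).ne_top (top_le_iff.1 (e ▸ (Ideal.span_singleton_le_iff_mem _).2 hfm)))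
      exact hg' (Set.mem_biUnion (hfin.mem_toFinset.2 hr) ((show g = 0 by simpa using hgq) ▸ r.zero_mem))
    have := hq.1.1
    obtain ⟨r, hr, hrq⟩ := Ideal.exists_minimalPrimes_le
      ((Ideal.span_singleton_le_iff_mem _).2 (h q this hq0))
    have hrq' : r < q := lt_of_le_of_ne hrq fun e =>
      hg' (Set.mem_biUnion (hfin.mem_toFinset.2 hr) (e ▸ hgq))
    have := hr.1.1
    have hr0 : r ≠ ⊥ := fun e => hf (by simpa [e] using (Ideal.span_singleton_le_iff_mem _).1 hr.1.2)
    have h1 : q.height ≤ 1 := by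
      haveI : (Ideal.span {g}).IsPrincipal := ⟨⟨g, rfl⟩⟩
      exact Ideal.height_le_one_of_isPrincipal_of_mem_minimalPrimes (Ideal.span {g}) q hq
    have h2 := Ideal.height_strict_mono_of_isPrime hrq'
    have h3 := Ideal.height_strict_mono_of_isPrime (bot_lt_iff_ne_bot.2 hr0 : (⊥ : Ideal B) < r)
    have h4 : r.height < 1 := lt_of_lt_of_le h2 h1
    rw [ENat.lt_one_iff_eq_zero] at h4
    simp [h4] at h3

/-- A prime avoiding `f` with nothing but the maximal ideal strictly above it. -/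
theorem exists_prime_avoiding {A : Type*} [CommRing A] [IsDomain A] [IsLocalRing A] [IsNoetherianRing A]
    {f : A} (hf : f ≠ 0) (hfm : f ∈ maximalIdeal A) :
    ∃ q : Ideal A, q.IsPrime ∧ f ∉ q ∧ ∀ p : Ideal A, p.IsPrime → q < p → p = maximalIdeal A := by
  obtain ⟨q, ⟨hq, hfq⟩, hmax⟩ := exists_maximal_of_wellFoundedGT
    (fun q : Ideal A => q.IsPrime ∧ f ∉ q) ⟨⊥, Ideal.isPrime_bot, by simpa using hf⟩
  refine ⟨q, hq, hfq, fun p hp hqp => ?_⟩
  haveI : Nontrivial (A ⧸ q) := Ideal.Quotient.nontrivial_iff.mpr hq.ne_top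
  haveI : IsLocalRing (A ⧸ q) := .of_surjective' _ Ideal.Quotient.mk_surjective
  have hmk : Function.Surjective (Ideal.Quotient.mk q) := Ideal.Quotient.mk_surjective
  have key : p.map (Ideal.Quotient.mk q) = maximalIdeal (A ⧸ q) := by
    refine eq_maximal_of_forall_mem (f := Ideal.Quotient.mk q f) (fun P hP hP0 => ?_)
      (fun h => hfq (Ideal.Quotient.eq_zero_iff_mem.1 h))
      (Ideal.map_isPrime_of_surjective hmk (by rw [Ideal.mk_ker]; exact hqp.le)) fun h => hqp.ne' ?_
    · by_contra hfP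
      have hle : q ≤ P.comap (Ideal.Quotient.mk q) := fun a ha => by
        rw [Ideal.mem_comap, Ideal.Quotient.eq_zero_iff_mem.2 ha]; exact P.zero_mem
      have he := hmax (y := P.comap (Ideal.Quotient.mk q)) ⟨Ideal.IsPrime.comap _, hfP⟩ hle
      refine hP0 (Ideal.comap_injective_of_surjective _ hmk (le_antisymm ?_ (Ideal.comap_mono bot_le)))
      rw [← RingHom.ker_eq_comap_bot, Ideal.mk_ker]
      exact he
    · refine le_antisymm (fun a ha => ?_) hqp.le
      exact Ideal.Quotient.eq_zero_iff_mem.1 (by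
        rw [← Ideal.mem_bot, ← h]; exact Ideal.mem_map_of_mem _ ha)
  haveI := hmk.isLocalHom
  refine le_antisymm (le_maximalIdeal hp.ne_top) fun a ha => ?_
  obtain ⟨b, hb, hba⟩ := (Ideal.mem_map_iff_of_surjective _ hmk).1 (key.ge (map_nonunit (Ideal.Quotient.mk q) a ha))
  have := p.sub_mem hb (hqp.le (Ideal.Quotient.eq.1 hba))
  simpa using this

variable {k : Type u} [Field k] {X : Scheme.{u}} (π : X ⟶ Spec (CommRingCat.of k))
  [LocallyOfFiniteType π] [IsIntegral X] [IsLocallyNoetherian X]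

include π in
/-- A curve meeting the complement of a nonempty open without lying in it. -/
theorem exists_curve [CompactSpace X] (U : X.Opens) (hη : genericPoint X ∈ U) (hU : U ≠ ⊤) :
    ∃ y : X, (topologicalKrullDim (closure {y} : Set X) = 1 ∧ y ∈ U) ∧ ∃ x, y ⤳ x ∧ x ∉ U := by
  obtain ⟨x, hxU, hx⟩ : ∃ x, x ∉ U ∧ IsClosed ({x} : Set X) := by
    obtain ⟨z, hz⟩ : ∃ z, z ∉ U := by
      by_contra! h
      exact hU (top_le_iff.1 fun z _ => h z)
    obtain ⟨x, hxcl, hx⟩ := IsClosed.exists_closed_singleton (U.2.isClosed_compl) ⟨z, hz⟩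
    exact ⟨x, hxcl, hx⟩
  let φ := X.fromSpecStalk x
  have hφm : φ (closedPoint (X.presheaf.stalk x)) = x := Scheme.fromSpecStalk_closedPoint
  obtain ⟨I, hI⟩ : ∃ I : Ideal (X.presheaf.stalk x),
      φ ⁻¹' (U : Set X)ᶜ = PrimeSpectrum.zeroLocus (I : Set (X.presheaf.stalk x)) :=
    (PrimeSpectrum.isClosed_iff_zeroLocus_ideal _).1 (U.2.isClosed_compl.preimage φ.continuous)
  obtain ⟨b, hb⟩ : genericPoint X ∈ Set.range φ := by
    rw [Scheme.range_fromSpecStalk]; exact (genericPoint_spec X).specializes (Set.mem_univ x)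
  have hI0 : I ≠ ⊥ := by
    intro h
    have hbz : b ∈ PrimeSpectrum.zeroLocus (I : Set (X.presheaf.stalk x)) := by
      rw [h]; intro a ha; rw [show a = 0 from ha]; exact b.asIdeal.zero_mem
    rw [← hI] at hbz
    exact hbz (show φ b ∈ U by rw [hb]; exact hη)
  obtain ⟨f, hfI, hf0⟩ := Submodule.exists_mem_ne_zero_of_ne_bot hI0
  have hfm : f ∈ maximalIdeal (X.presheaf.stalk x) := by
    have : closedPoint (X.presheaf.stalk x) ∈ φ ⁻¹' (U : Set X)ᶜ := by
      show φ _ ∉ U; rw [hφm]; exact hxU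
    rw [hI] at this
    exact this hfI
  obtain ⟨q, hq, hfq, hqmax⟩ := exists_prime_avoiding hf0 hfm
  let y := φ ⟨q, hq⟩
  have hyx : y ⤳ x := by
    have h : (⟨q, hq⟩ : PrimeSpectrum (X.presheaf.stalk x)) ⤳ closedPoint _ :=
      (PrimeSpectrum.le_iff_specializes _ _).1 (le_maximalIdeal hq.ne_top)
    exact hφm ▸ h.map φ.continuous
  have hyU : y ∈ U := by
    by_contra h
    have : (⟨q, hq⟩ : PrimeSpectrum (X.presheaf.stalk x)) ∈ φ ⁻¹' (U : Set X)ᶜ := h
    rw [hI] at this
    exact hfq (this hfI)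
  refine ⟨y, ⟨?_, hyU⟩, x, hyx, hxU⟩
  have hne : y ≠ x := fun e => hxU (e ▸ hyU)
  obtain ⟨w, h1, h2, h3⟩ := VarDim.Basic.exists_step_below π hyx hne
  have hwx : w = x := by
    obtain ⟨p, rfl⟩ : w ∈ Set.range φ := by rw [Scheme.range_fromSpecStalk]; exact h2
    have hle : q ≤ p.asIdeal :=
      (PrimeSpectrum.le_iff_specializes ⟨q, hq⟩ p).2 (φ.isEmbedding.toIsInducing.specializes_iff.1 h1)
    have hlt : q < p.asIdeal := lt_of_le_of_ne hle fun e => by
      have : (⟨q, hq⟩ : PrimeSpectrum (X.presheaf.stalk x)) = p := PrimeSpectrum.ext e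
      rw [← this] at h3
      change VarDim.Basic.pdim π y = VarDim.Basic.pdim π y + 1 at h3
      omega
    rw [show p = closedPoint _ from PrimeSpectrum.ext (hqmax _ p.isPrime hlt)]
    exact hφm
  rw [hwx, (VarDim.Basic.pdim_eq_zero_iff π x).mpr hx] at h3
  rw [VarDim.Basic.topologicalKrullDim_isGenericPoint π
    (show IsGenericPoint y (closure ({y} : Set X)) from rfl)]
  rw [show VarDim.Basic.pdim π y = 1 by omega]
  rfl

end Groth.Agent.Lib.IntTheory.CurveThrough
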