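import Groth.Agent.Lib.IntTheory.BaseChange
import Groth.Agent.Lib.ActSep.GrpDim
import Groth.Agent.Lib.MaxFibre.Field
import Groth.Agent.Lib.Ample.Pullback
import Groth.Agent.Lib.GrpSch.SmoothReduced
import Groth.Agent.Lib.Curves.GlobalSections
import Mathlib.AlgebraicGeometry.Geometrically.Irreducible
import Mathlib.FieldTheory.IsAlgClosed.AlgebraicClosure

/-!
# Passing to the algebraic closure
-/

set_option autoImplicit false
set_option linter.style.haveILetI false
universe u

open CategoryTheory CategoryTheory.Limits AlgebraicGeometry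

namespace Groth.Agent.Lib.IntTheory.Geometric

open Groth.Agent.Lib

variable (k : Type u) [Field k] (X : Scheme.{u}) [X.Over (Spec (CommRingCat.of k))]

/-- `X_k̄`. -/
noncomputable abbrev bar : Scheme.{u} :=
  pullback (X ↘ Spec (CommRingCat.of k))
    (Spec.map (CommRingCat.ofHom (algebraMap k (AlgebraicClosure k))))

noncomputable instance : (bar k X).Over (Spec (CommRingCat.of (AlgebraicClosure k))) := ⟨pullback.snd _ _⟩

/-- The projection. -/
noncomputable abbrev proj : bar k X ⟶ X := pullback.fst _ _

theorem isPullback : IsPullback (proj k X) (bar k X ↘ Spec (CommRingCat.of (AlgebraicClosure k)))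
    (X ↘ Spec (CommRingCat.of k)) (Spec.map (CommRingCat.ofHom (algebraMap k (AlgebraicClosure k)))) :=
  IsPullback.of_hasPullback _ _

instance [IsProper (X ↘ Spec (CommRingCat.of k))] :
    IsProper (bar k X ↘ Spec (CommRingCat.of (AlgebraicClosure k))) :=
  inferInstanceAs (IsProper (pullback.snd _ _))

instance [Smooth (X ↘ Spec (CommRingCat.of k))] :
    Smooth (bar k X ↘ Spec (CommRingCat.of (AlgebraicClosure k))) :=
  inferInstanceAs (Smooth (pullback.snd _ _))

instance : IsIntegralHom (proj k X) :=
  haveI : IsIntegralHom (Spec.map (CommRingCat.ofHom (algebraMap k (AlgebraicClosure k)))) := by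
    rw [IsIntegralHom.SpecMap_iff]
    exact algebraMap_isIntegral_iff.2 inferInstance
  inferInstance

instance : Surjective (proj k X) := by
  haveI : Surjective (Spec.map (CommRingCat.ofHom (algebraMap k (AlgebraicClosure k)))) :=
    ⟨fun y => ⟨IsLocalRing.closedPoint (AlgebraicClosure k),
      Subsingleton.elim (α := PrimeSpectrum k) _ _⟩⟩
  infer_instance

theorem dim_eq : topologicalKrullDim (bar k X) = topologicalKrullDim X := by
  have h := ActSep.topologicalKrullDim_preimage_of_integral_surjective (proj k X) (C := Set.univ) isClosed_univ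
  rw [Set.preimage_univ] at h
  exact ((Homeomorph.Set.univ _).isHomeomorph.topologicalKrullDim_eq.symm.trans h).trans
    (Homeomorph.Set.univ _).isHomeomorph.topologicalKrullDim_eq

theorem isIntegral [Smooth (X ↘ Spec (CommRingCat.of k))]
    [GeometricallyIrreducible (X ↘ Spec (CommRingCat.of k))] : IsIntegral (bar k X) := by
  haveI : IrreducibleSpace (bar k X) :=
    GeometricallyIrreducible.geometrically_irreducibleSpace _ _ _ (IsPullback.of_hasPullback _ _)
  haveI := GrpSch.isReduced_of_smooth_field (bar k X ↘ Spec (CommRingCat.of (AlgebraicClosure k)))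
  exact isIntegral_of_irreducibleSpace_of_isReduced _

theorem isAmple {H : X.Modules} (hH : CohB1.IsAmple H) :
    CohB1.IsAmple ((Scheme.Modules.pullback (proj k X)).obj H) :=
  Ample.Pullback.isAmple_pullback _ (Ample.Pullback.isQuasiAffine_of_isAffineHom _) hH

/-- Two-term intersection numbers against the structure sheaf. -/
theorem intNum_pair [IsProper (X ↘ Spec (CommRingCat.of k))] {A B : X.Modules}
    (hA : PicF.IsInvertible A) (hB : PicF.IsInvertible B) (d : ℕ) :
    FGA.intNum (AlgebraicClosure k) (bar k X) d
        ![(Scheme.Modules.pullback (proj k X)).obj A, (Scheme.Modules.pullback (proj k X)).obj B]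
        (Coh.structureModule (bar k X)) =
      FGA.intNum k X d ![A, B] (Coh.structureModule X) := by
  haveI := Curves.GlobalSections.isNoetherian_of_proper k X
  have h := BaseChange.intNum (isPullback k X) (M := ![A, B]) (d := d)
    (fun i => by fin_cases i <;> assumption) (F := Coh.structureModule X)
    (Snapper.Twist.isCoh_structureModule X)
  rw [show (fun i => (Scheme.Modules.pullback (proj k X)).obj (![A, B] i)) =
    ![(Scheme.Modules.pullback (proj k X)).obj A, (Scheme.Modules.pullback (proj k X)).obj B] from
    funext fun i => by fin_cases i <;> rfl] at h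
  rw [← h, Snapper.IntNum.intNum_eq_sym, Snapper.IntNum.intNum_eq_sym]
  exact (Snapper.Vanish.sym_of_iso _ (PicLoc.pullbackStructureIso (proj k X))).symm

end Groth.Agent.Lib.IntTheory.Geometric
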